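import Mathlib
import Cfsg.Agent.Lib.PGroup.Basic

/-!
2-groups whose elements of order at most four are central.
-/

set_option autoImplicit false

namespace CfsgLib.PGroup.MacWilliams

open Subgroup

universe u

/-- Elements of order dividing four are central. -/
def Om (C : Type u) [Group C] : Prop := ∀ x : C, x ^ 4 = 1 → ∀ y : C, x * y = y * x

variable {C : Type u} [Group C]

theorem pow_four {M : Type*} [Monoid M] (x : M) : x ^ 4 = x * x * (x * x) := by
  rw [show 4 = 2 + 2 from rfl, pow_add, pow_two]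

theorem pow_eight {M : Type*} [Monoid M] (x : M) : x ^ 8 = x ^ 4 * x ^ 4 := by rw [← pow_add]

theorem comm_of_sq (h : Om C) {x : C} (hx : x * x = 1) (y : C) : x * y = y * x :=
  h x (by rw [pow_four, hx, one_mul]) y

/-- The subgroup of elements of square one. -/
def omegaOne (h : Om C) : Subgroup C where
  carrier := {x | x * x = 1}
  one_mem' := one_mul 1
  mul_mem' := fun {x y} hx hy => by
    show x * y * (x * y) = 1
    rw [show x * y * (x * y) = x * (y * x) * y by group, ← comm_of_sq h hx y,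
      show x * (x * y) * y = (x * x) * (y * y) by group, hx, hy, one_mul]
  inv_mem' := fun {x} hx => by
    show x⁻¹ * x⁻¹ = 1
    rw [← mul_inv_rev, hx, inv_one]

instance omegaOne_normal (h : Om C) : (omegaOne h).Normal :=
  ⟨fun x hx g => by rw [← comm_of_sq h hx g, mul_inv_cancel_right]; exact hx⟩

theorem mem_omegaOne {h : Om C} {x : C} : x ∈ omegaOne h ↔ x * x = 1 := Iff.rfl

theorem Om.of_injective {D : Type u} [Group D] (h : Om C) (f : D →* C) (hf : Function.Injective f) : Om D :=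
  fun x hx y => hf (by rw [map_mul, map_mul]; exact h _ (by rw [← map_pow, hx, map_one]) _)

theorem index_two_of_coatom [Finite C] (h2 : IsPGroup 2 C) {M : Subgroup C} (hM : IsCoatom M) : M.index = 2 :=
  haveI : Fact (Nat.Prime 2) := ⟨Nat.prime_two⟩
  CfsgLib.PGroup.index_of_isCoatom h2 hM

theorem comm_mod_aux : ∀ (n : ℕ) (C : Type u) [Group C] [Finite C], Nat.card C = n → IsPGroup 2 C → Om C →
    ∀ x : C, x ^ 8 = 1 → ∀ y : C, y * x * y⁻¹ * x⁻¹ * (y * x * y⁻¹ * x⁻¹) = 1 := by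
  intro n
  induction n using Nat.strong_induction_on with
  | _ n ih =>
  intro C _ _ hn h2 h x hx y
  haveI : Fact (Nat.Prime 2) := ⟨Nat.prime_two⟩
  by_cases hcyc : zpowers x = ⊤
  · obtain ⟨i, rfl⟩ := mem_zpowers_iff.1 (hcyc.ge (mem_top y))
    rw [show x ^ i * x * (x ^ i)⁻¹ * x⁻¹ = 1 by group, one_mul]
  obtain ⟨M, hM, hxM⟩ := (eq_top_or_exists_le_coatom (zpowers x)).resolve_left hcyc
  have hidx := index_two_of_coatom h2 hM
  haveI := normal_of_index_eq_two hidx
  set x' := y * x * y⁻¹ with hx'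
  have hx1 : x ∈ M := hxM (mem_zpowers x)
  have hx'1 : x' ∈ M := (inferInstance : M.Normal).conj_mem x hx1 y
  have hlt : Nat.card M < n := by
    have := M.card_mul_index
    rw [hidx, hn] at this
    have : 0 < Nat.card M := Nat.card_pos
    omega
  have he := congrArg Subtype.val (ih _ hlt M rfl (h2.to_subgroup M) (h.of_injective M.subtype M.subtype_injective)
    ⟨x', hx'1⟩ (Subtype.ext (show x' ^ 8 = 1 by rw [hx', conj_pow, hx, mul_one, mul_inv_cancel])) ⟨x, hx1⟩)
  set e := x * x' * x⁻¹ * x'⁻¹ with he'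
  have he2 : e * e = 1 := he
  have hsq : x' * x' = x * x := by
    rw [hx', show y * x * y⁻¹ * (y * x * y⁻¹) = y * (x * x) * y⁻¹ by group,
      ← h (x * x) (by rw [← pow_two, ← pow_mul, hx]) y, mul_inv_cancel_right]
  have hc2 : x⁻¹ * x' * (x⁻¹ * x') = e := by
    rw [show x⁻¹ * x' * (x⁻¹ * x') = x⁻¹ * x⁻¹ * (x * x' * x⁻¹ * x'⁻¹) * (x' * x') by group, ← he',
      mul_assoc, comm_of_sq h he2, ← mul_assoc, hsq,
      show x⁻¹ * x⁻¹ * (x * x) = 1 by group, one_mul]
  have hcen := h (x⁻¹ * x') (by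
    rw [pow_four, hc2, he2])
  have hc1 : x⁻¹ * x' * (x⁻¹ * x') = 1 := by
    have h1 : x' * x' = x * x * (x⁻¹ * x' * (x⁻¹ * x')) := by
      rw [show x * x * (x⁻¹ * x' * (x⁻¹ * x')) = x * (x * (x⁻¹ * x')) * (x⁻¹ * x') by group, ← hcen x]
      group
    rw [hsq] at h1
    exact (mul_eq_left.1 h1.symm)
  have hd : x' * x⁻¹ = x⁻¹ * x' := by
    calc x' * x⁻¹ = x * (x⁻¹ * x') * x⁻¹ := by group
      _ = x⁻¹ * x' * x * x⁻¹ := by rw [← hcen x]
      _ = x⁻¹ * x' := by group
  rw [hd]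
  exact hc1

theorem comm_mod [Finite C] (h2 : IsPGroup 2 C) (h : Om C) {x : C} (hx : x ^ 8 = 1) (y : C) :
    y * x * y⁻¹ * x⁻¹ ∈ omegaOne h := comm_mod_aux _ C rfl h2 h x hx y

theorem Om.quotient [Finite C] (h2 : IsPGroup 2 C) (h : Om C) : Om (C ⧸ omegaOne h) := by
  intro x hx y
  obtain ⟨x, rfl⟩ := QuotientGroup.mk'_surjective (omegaOne h) x
  obtain ⟨y, rfl⟩ := QuotientGroup.mk'_surjective (omegaOne h) y
  rw [← map_pow] at hx
  have hx4 : x ^ 4 * x ^ 4 = 1 := (QuotientGroup.eq_one_iff _).1 hx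
  have h1 := comm_mod h2 h (x := x) (by rw [pow_eight, hx4]) y
  have h3 : QuotientGroup.mk' (omegaOne h) (y * x * y⁻¹ * x⁻¹) = 1 := (QuotientGroup.eq_one_iff _).2 h1
  rw [map_mul, map_mul, map_mul, map_inv, map_inv, mul_inv_eq_one, mul_inv_eq_iff_eq_mul] at h3
  exact h3.symm

theorem card_quotient_lt [Finite C] (h2 : IsPGroup 2 C) (h : Om C) (hC : Nontrivial C) :
    Nat.card (C ⧸ omegaOne h) < Nat.card C := by
  haveI : Fact (Nat.Prime 2) := ⟨Nat.prime_two⟩
  obtain ⟨z, -, hz⟩ := CfsgLib.PGroup.exists_orderOf_eq h2 (H := (⊤ : Subgroup C)) top_ne_bot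
  have hzW : z ∈ omegaOne h := mem_omegaOne.2 (by rw [← pow_two, ← hz, pow_orderOf_eq_one])
  have h1 : 1 < Nat.card (omegaOne h) := by
    rw [one_lt_card_iff_ne_bot]
    intro hb
    rw [hb, mem_bot] at hzW
    rw [hzW, orderOf_one] at hz
    exact absurd hz (by norm_num)
  have h3 := card_eq_card_quotient_mul_card_subgroup (omegaOne h)
  have : 0 < Nat.card (C ⧸ omegaOne h) := Nat.card_pos
  rw [h3]
  exact lt_mul_of_one_lt_right this h1

theorem inj_aux : ∀ (n : ℕ) (C : Type u) [Group C] [Finite C], Nat.card C = n → IsPGroup 2 C → ∀ h : Om C,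
    ∀ x y : C, x * x = y * y → x * y⁻¹ ∈ omegaOne h := by
  intro n
  induction n using Nat.strong_induction_on with
  | _ n ih =>
  intro C _ _ hn h2 h x y hxy
  rcases subsingleton_or_nontrivial C with hs | hs
  · exact Subsingleton.elim (1 : C) (x * y⁻¹) ▸ one_mem _
  have h1 := ih _ (hn ▸ card_quotient_lt h2 h hs) _ rfl (h2.to_quotient _) (h.quotient h2)
    (QuotientGroup.mk' _ x) (QuotientGroup.mk' _ y) (by rw [← map_mul, ← map_mul, hxy])
  rw [mem_omegaOne, ← map_inv, ← map_mul, ← map_mul] at h1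
  have h3 : (x * y⁻¹) * (x * y⁻¹) * ((x * y⁻¹) * (x * y⁻¹)) = 1 := (QuotientGroup.eq_one_iff _).1 h1
  have hc := h (x * y⁻¹) (by rw [pow_four]; exact h3) y
  rw [mem_omegaOne]
  have h4 : x * x = (x * y⁻¹) * (x * y⁻¹) * (y * y) := by
    calc x * x = (x * y⁻¹) * (y * (x * y⁻¹)) * y := by group
      _ = (x * y⁻¹) * ((x * y⁻¹) * y) * y := by rw [hc]
      _ = _ := by group
  rw [← hxy] at h4
  exact (mul_eq_right.1 h4.symm)

theorem sq_inj [Finite C] (h2 : IsPGroup 2 C) (h : Om C) {x y : C} (hxy : x * x = y * y) :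
    (x * y⁻¹) * (x * y⁻¹) = 1 := inj_aux _ C rfl h2 h x y hxy

theorem exists_pair {W : Type*} [Group W] [Finite W] (hW : Nat.card W ≤ 4) {x : W}
    (hexp : ∀ v : W, v * v = 1) : ∃ y, x ≠ 1 → ∀ v : W, v = 1 ∨ v = x ∨ v = y ∨ v = x * y := by
  classical
  by_cases hall : ∀ v : W, v = 1 ∨ v = x
  · exact ⟨1, fun _ v => (hall v).elim Or.inl fun h => Or.inr (Or.inl h)⟩
  push_neg at hall
  obtain ⟨y, hy1, hyx⟩ := hall
  refine ⟨y, fun hx v => ?_⟩
  by_contra! hv
  have hxy1 : x * y ≠ 1 := fun h => hyx ((inv_eq_of_mul_eq_one_right h).symm.trans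
    (inv_eq_of_mul_eq_one_right (hexp x)))
  haveI := Fintype.ofFinite W
  have hc : ({1, x, y, x * y, v} : Finset W).card = 5 := by
    rw [Finset.card_insert_of_notMem (by simp [hx.symm, hy1.symm, hxy1.symm, hv.1.symm]),
      Finset.card_insert_of_notMem (by simp [hyx.symm, hy1, hv.2.1.symm]),
      Finset.card_insert_of_notMem (by simp [hx, hv.2.2.1.symm]),
      Finset.card_insert_of_notMem (by simp [hv.2.2.2.symm]), Finset.card_singleton]
  have := Finset.card_le_univ ({1, x, y, x * y, v} : Finset W)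
  rw [hc, ← Nat.card_eq_fintype_card] at this
  omega

theorem two_group_card_le {n : ℕ} [Finite C] (h2 : IsPGroup 2 C) (hn : Nat.card C ≤ n) (h3 : n < 4) :
    Nat.card C ≤ 2 := by
  haveI : Fact (Nat.Prime 2) := ⟨Nat.prime_two⟩
  obtain ⟨k, hk⟩ := IsPGroup.iff_card.1 h2
  by_contra! h
  rcases k with _ | _ | k
  · rw [hk] at h; norm_num at h
  · rw [hk] at h; norm_num at h
  · have h4 : 4 ≤ Nat.card C := by
      rw [hk, pow_succ, pow_succ]
      have := Nat.one_le_two_pow (n := k)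
      omega
    omega

/-- A bound for the involutions of the quotient. -/
theorem card_omegaOne_quotient [Finite C] (h2 : IsPGroup 2 C) (h : Om C) :
    Nat.card (omegaOne (h.quotient h2)) ≤ Nat.card (omegaOne h) ∧
    ((∃ m ∈ omegaOne h, ∀ d : C, m ≠ d * d) → Nat.card (omegaOne (h.quotient h2)) < Nat.card (omegaOne h)) := by
  have hmk : ∀ q : omegaOne (h.quotient h2), (q : C ⧸ omegaOne h).out * (q : C ⧸ omegaOne h).out ∈ omegaOne h := by
    intro q
    refine (QuotientGroup.eq_one_iff _).1 ?_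
    rw [QuotientGroup.mk_mul, QuotientGroup.out_eq']
    exact q.2
  let f : omegaOne (h.quotient h2) → omegaOne h := fun q => ⟨_, hmk q⟩
  have hf : Function.Injective f := by
    intro q r hqr
    have h1 : (q : C ⧸ omegaOne h).out * (r : C ⧸ omegaOne h).out⁻¹ ∈ omegaOne h :=
      sq_inj h2 h (congrArg Subtype.val hqr)
    have h3 := (QuotientGroup.eq_one_iff _).2 h1
    rw [QuotientGroup.mk_mul, QuotientGroup.mk_inv, QuotientGroup.out_eq', QuotientGroup.out_eq',
      mul_inv_eq_one] at h3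
    exact Subtype.ext h3
  refine ⟨Nat.card_le_card_of_injective f hf, ?_⟩
  rintro ⟨m, hm, hns⟩
  rcases (Nat.card_le_card_of_injective f hf).lt_or_eq with h1 | h1
  · exact h1
  exfalso
  obtain ⟨q, hq⟩ := ((Nat.bijective_iff_injective_and_card f).2 ⟨hf, h1⟩).2 ⟨m, hm⟩
  exact hns _ (congrArg Subtype.val hq).symm

theorem trivial_of_omega [Finite C] (h2 : IsPGroup 2 C) (h : Om C) (hW : Nat.card (omegaOne h) ≤ 1) (x : C) :
    x = 1 := by
  by_contra hx
  haveI : Nontrivial C := ⟨⟨x, 1, hx⟩⟩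
  have := card_quotient_lt h2 h inferInstance
  have h3 := card_eq_card_quotient_mul_card_subgroup (omegaOne h)
  have : 0 < Nat.card (omegaOne h) := Nat.card_pos
  have h4 : Nat.card (omegaOne h) = 1 := by omega
  rw [h4, mul_one] at h3
  omega

theorem absorb (h : Om C) (d : C) {m : C} (hm : m ∈ omegaOne h) (hs : ∃ e, m = e * e) :
    ∃ d', d * d * m = d' * d' := by
  obtain ⟨e, rfl⟩ := hs
  have hec := h e (by rw [pow_four]; exact hm) d
  exact ⟨d * e, by rw [show d * e * (d * e) = d * (e * d) * e by group, hec]; group⟩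

/-- With at most two involution solutions the group is cyclic modulo squares. -/
theorem cyc_aux : ∀ (n : ℕ) (C : Type u) [Group C] [Finite C], Nat.card C = n → IsPGroup 2 C → ∀ h : Om C,
    Nat.card (omegaOne h) ≤ 2 → ∃ a : C, ∀ x : C, ∃ d : C, x = d * d ∨ x = a * (d * d) := by
  intro n
  induction n using Nat.strong_induction_on with
  | _ n ih =>
  intro C _ _ hn h2 h hW
  rcases subsingleton_or_nontrivial C with hs | hs
  · exact ⟨1, fun x => ⟨1, Or.inl (Subsingleton.elim _ _)⟩⟩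
  have hW' := card_omegaOne_quotient h2 h
  by_cases hsq : ∀ m ∈ omegaOne h, ∃ e, m = e * e
  · obtain ⟨a, ha⟩ := ih _ (hn ▸ card_quotient_lt h2 h hs) _ rfl (h2.to_quotient _) (h.quotient h2) (hW'.1.trans hW)
    obtain ⟨a, rfl⟩ := QuotientGroup.mk'_surjective (omegaOne h) a
    refine ⟨a, fun x => ?_⟩
    obtain ⟨d, hd⟩ := ha (QuotientGroup.mk' _ x)
    obtain ⟨d, rfl⟩ := QuotientGroup.mk'_surjective (omegaOne h) d
    rw [← map_mul, ← map_mul] at hd
    rcases hd with hd | hd <;> obtain ⟨m, hm, e⟩ := (QuotientGroup.mk'_eq_mk' _).1 hd.symm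
    · obtain ⟨d', hd'⟩ := absorb h d hm (hsq m hm)
      exact ⟨d', Or.inl (e.symm.trans hd')⟩
    · obtain ⟨d', hd'⟩ := absorb h d hm (hsq m hm)
      exact ⟨d', Or.inr (by rw [← e, ← hd', mul_assoc a])⟩
  · push_neg at hsq
    obtain ⟨m, hm, hns⟩ := hsq
    have h1 : Nat.card (omegaOne (h.quotient h2)) ≤ 1 := by
      have := hW'.2 ⟨m, hm, hns⟩
      omega
    have hm1 : (⟨m, hm⟩ : omegaOne h) ≠ 1 := fun e => hns 1 (by rw [one_mul]; exact congrArg Subtype.val e)
    refine ⟨m, fun x => ?_⟩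
    have hx : x ∈ omegaOne h :=
      (QuotientGroup.eq_one_iff _).1 (trivial_of_omega (h2.to_quotient _) (h.quotient h2) h1 (QuotientGroup.mk' _ x))
    obtain ⟨c, -, hu⟩ := (Nat.card_eq_two_iff' (1 : omegaOne h)).1 (le_antisymm hW (by
      haveI : Nontrivial (omegaOne h) := ⟨⟨_, _, hm1⟩⟩
      exact Finite.one_lt_card))
    by_cases hx1 : x = 1
    · exact ⟨1, Or.inl (by rw [hx1, one_mul])⟩
    · refine ⟨1, Or.inr ?_⟩
      have h3 : (⟨x, hx⟩ : omegaOne h) = ⟨m, hm⟩ :=
        (hu _ fun e => hx1 (congrArg Subtype.val e)).trans (hu _ hm1).symm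
      rw [one_mul, mul_one]; exact congrArg Subtype.val h3

theorem key_aux : ∀ (n : ℕ) (C : Type u) [Group C] [Finite C], Nat.card C = n → IsPGroup 2 C → ∀ h : Om C,
    Nat.card (omegaOne h) ≤ 4 → ∃ a b : C, ∀ x : C, ∃ d : C,
      x = d * d ∨ x = a * (d * d) ∨ x = b * (d * d) ∨ x = a * b * (d * d) := by
  intro n
  induction n using Nat.strong_induction_on with
  | _ n ih =>
  intro C _ _ hn h2 h hW
  rcases subsingleton_or_nontrivial C with hs | hs
  · exact ⟨1, 1, fun x => ⟨1, Or.inl (Subsingleton.elim _ _)⟩⟩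
  have hW' := card_omegaOne_quotient h2 h
  by_cases hsq : ∀ m ∈ omegaOne h, ∃ e, m = e * e
  · obtain ⟨a, b, hab⟩ := ih _ (hn ▸ card_quotient_lt h2 h hs) _ rfl (h2.to_quotient _) (h.quotient h2) (hW'.1.trans hW)
    obtain ⟨a, rfl⟩ := QuotientGroup.mk'_surjective (omegaOne h) a
    obtain ⟨b, rfl⟩ := QuotientGroup.mk'_surjective (omegaOne h) b
    refine ⟨a, b, fun x => ?_⟩
    obtain ⟨d, hd⟩ := hab (QuotientGroup.mk' _ x)
    obtain ⟨d, rfl⟩ := QuotientGroup.mk'_surjective (omegaOne h) d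
    simp only [← map_mul] at hd
    rcases hd with hd | hd | hd | hd <;> obtain ⟨m, hm, e⟩ := (QuotientGroup.mk'_eq_mk' _).1 hd.symm <;>
      obtain ⟨d', hd'⟩ := absorb h d hm (hsq m hm) <;> refine ⟨d', ?_⟩
    · exact Or.inl (e.symm.trans hd')
    · exact Or.inr (Or.inl (by rw [← e, ← hd', mul_assoc a]))
    · exact Or.inr (Or.inr (Or.inl (by rw [← e, ← hd', mul_assoc b])))
    · exact Or.inr (Or.inr (Or.inr (by rw [← e, ← hd', mul_assoc (a * b)])))
  push_neg at hsq
  obtain ⟨m, hm, hns⟩ := hsq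
  have hcard : Nat.card (omegaOne (h.quotient h2)) ≤ 2 := by
    have := hW'.2 ⟨m, hm, hns⟩
    exact two_group_card_le ((h2.to_quotient _).to_subgroup _) (n := 3) (by omega) (by omega)
  have hexp : ∀ v : omegaOne h, v * v = 1 := fun v => Subtype.ext v.2
  have hm1 : (⟨m, hm⟩ : omegaOne h) ≠ 1 := fun e => hns 1 (by rw [one_mul]; exact congrArg Subtype.val e)
  obtain ⟨w, hw⟩ := exists_pair hW hexp (x := ⟨m, hm⟩)
  have hW4 := hw hm1
  by_cases ht : ∀ d : C, d * d ∈ omegaOne h → d * d = 1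
  · -- everything squares to one
    have h1 : Nat.card (omegaOne (h.quotient h2)) ≤ 1 := by
      rw [Finite.card_le_one_iff_subsingleton]
      refine ⟨fun q r => Subtype.ext ?_⟩
      have hq : ∀ q : omegaOne (h.quotient h2), (q : C ⧸ omegaOne h) = 1 := fun q => by
        obtain ⟨d, hd⟩ := QuotientGroup.mk'_surjective (omegaOne h) (q : C ⧸ omegaOne h)
        rw [← hd]
        have h4 : QuotientGroup.mk' (omegaOne h) (d * d) = 1 := by rw [map_mul, hd]; exact q.2
        exact (QuotientGroup.eq_one_iff _).2 (mem_omegaOne.2 (ht d ((QuotientGroup.eq_one_iff _).1 h4)))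
      rw [hq q, hq r]
    refine ⟨m, w, fun x => ⟨1, ?_⟩⟩
    have hx : x ∈ omegaOne h :=
      (QuotientGroup.eq_one_iff _).1 (trivial_of_omega (h2.to_quotient _) (h.quotient h2) h1 (QuotientGroup.mk' _ x))
    rcases hW4 ⟨x, hx⟩ with e | e | e | e <;> have e' := congrArg Subtype.val e <;>
      simp only [OneMemClass.coe_one, Subgroup.coe_mul] at e' <;> simp [e']
  push_neg at ht
  obtain ⟨e0, he0, hne⟩ := ht
  set t := e0 * e0 with ht'
  have ht1 : (⟨t, he0⟩ : omegaOne h) ≠ 1 := fun e => hne (congrArg Subtype.val e)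
  obtain ⟨w', hw'⟩ := exists_pair hW hexp (x := ⟨t, he0⟩)
  have hT := hw' ht1
  -- every involution is a square or a square times `m`
  have hdec : ∀ v ∈ omegaOne h, (∃ e, v = e * e) ∨ ∃ s, (∃ e, s = e * e) ∧ s ∈ omegaOne h ∧ v = m * s := by
    intro v hv
    have hmm : m * (m * t) = t := by rw [← mul_assoc, mem_omegaOne.1 hm, one_mul]
    rcases hT ⟨m, hm⟩ with e | e | e | e
    · exact absurd e hm1
    · exact absurd (congrArg Subtype.val e) (fun h' => hns e0 h')
    all_goals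
      rcases hT ⟨v, hv⟩ with f | f | f | f
      · exact Or.inl ⟨1, by rw [one_mul]; exact congrArg Subtype.val f⟩
      · exact Or.inl ⟨e0, congrArg Subtype.val f⟩
      all_goals refine Or.inr ?_
    · exact ⟨1, ⟨1, (one_mul 1).symm⟩, one_mem _, by rw [mul_one]; exact congrArg Subtype.val (f.trans e.symm)⟩
    · refine ⟨t, ⟨e0, rfl⟩, he0, ?_⟩
      rw [show v = t * (w' : C) from congrArg Subtype.val f, show m = (w' : C) from congrArg Subtype.val e,
        comm_of_sq h w'.2]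
    · refine ⟨t, ⟨e0, rfl⟩, he0, ?_⟩
      rw [show v = (w' : C) from congrArg Subtype.val f, show m = t * (w' : C) from congrArg Subtype.val e,
        mul_assoc, comm_of_sq h w'.2, ← mul_assoc, mem_omegaOne.1 he0, one_mul]
    · exact ⟨1, ⟨1, (one_mul 1).symm⟩, one_mem _, by rw [mul_one]; exact congrArg Subtype.val (f.trans e.symm)⟩
  obtain ⟨a, ha⟩ := cyc_aux _ _ rfl (h2.to_quotient _) (h.quotient h2) hcard
  obtain ⟨a, rfl⟩ := QuotientGroup.mk'_surjective (omegaOne h) a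
  refine ⟨a, m, fun x => ?_⟩
  obtain ⟨d, hd⟩ := ha (QuotientGroup.mk' _ x)
  obtain ⟨d, rfl⟩ := QuotientGroup.mk'_surjective (omegaOne h) d
  simp only [← map_mul] at hd
  rcases hd with hd | hd <;> obtain ⟨v, hv, e⟩ := (QuotientGroup.mk'_eq_mk' _).1 hd.symm <;>
    rcases hdec v hv with hs' | ⟨s, hs', hsm, rfl⟩
  · obtain ⟨d', hd'⟩ := absorb h d hv hs'
    exact ⟨d', Or.inl (e.symm.trans hd')⟩
  · obtain ⟨d', hd'⟩ := absorb h d hsm hs'
    exact ⟨d', Or.inr (Or.inr (Or.inl (by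
      rw [← e, ← hd', ← mul_assoc (d * d), ← comm_of_sq h hm (d * d), mul_assoc m])))⟩
  · obtain ⟨d', hd'⟩ := absorb h d hv hs'
    exact ⟨d', Or.inr (Or.inl (by rw [← e, ← hd', mul_assoc a]))⟩
  · obtain ⟨d', hd'⟩ := absorb h d hsm hs'
    exact ⟨d', Or.inr (Or.inr (Or.inr (by
      rw [← e, ← hd', mul_assoc a m, ← mul_assoc m, comm_of_sq h hm (d * d)]
      simp only [mul_assoc])))⟩

/-- Two generators, one of which may be any given non-square. -/
theorem exists_gen [Finite C] (h2 : IsPGroup 2 C) (h : Om C) (hW : Nat.card (omegaOne h) ≤ 4) :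
    (∃ a b : C, closure {a, b} = ⊤) ∧
      ∀ c : C, (∀ d, c ≠ d * d) → ∃ e : C, closure {c, e} = ⊤ := by
  obtain ⟨a, b, hab⟩ := key_aux _ C rfl h2 h hW
  have hgen : ∀ S : Set C, (∀ M : Subgroup C, M.index = 2 → S ⊆ M → a ∈ M ∧ b ∈ M) → closure S = ⊤ := by
    intro S hS
    rcases eq_top_or_exists_le_coatom (closure S) with h1 | ⟨M, hM, hle⟩
    · exact h1
    exfalso
    have hidx := index_two_of_coatom h2 hM
    obtain ⟨haM, hbM⟩ := hS M hidx (subset_closure.trans hle)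
    refine hM.1 (eq_top_iff.2 fun x _ => ?_)
    obtain ⟨d, hd⟩ := hab x
    have hdd : d * d ∈ M := mul_self_mem_of_index_two hidx d
    rcases hd with rfl | rfl | rfl | rfl
    exacts [hdd, mul_mem haM hdd, mul_mem hbM hdd, mul_mem (mul_mem haM hbM) hdd]
  refine ⟨⟨a, b, hgen _ fun M _ hS => ⟨hS (by simp), hS (by simp)⟩⟩, fun c hc => ?_⟩
  obtain ⟨d, hd⟩ := hab c
  have hdd : ∀ M : Subgroup C, M.index = 2 → d * d ∈ M := fun M hi => mul_self_mem_of_index_two hi d
  rcases hd with hd | hd | hd | hd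
  · exact absurd hd (hc d)
  · refine ⟨b, hgen _ fun M hi hS => ⟨?_, hS (by simp)⟩⟩
    exact (mul_mem_cancel_right (hdd M hi)).1 (hd ▸ hS (by simp))
  · refine ⟨a, hgen _ fun M hi hS => ⟨hS (by simp), ?_⟩⟩
    exact (mul_mem_cancel_right (hdd M hi)).1 (hd ▸ hS (by simp))
  · refine ⟨a, hgen _ fun M hi hS => ⟨hS (by simp), ?_⟩⟩
    exact (mul_mem_cancel_left (hS (show a ∈ ({c, a} : Set C) by simp))).1
      ((mul_mem_cancel_right (hdd M hi)).1 (hd ▸ hS (by simp)))

end CfsgLib.PGroup.MacWilliams
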