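import Mathlib
import Cfsg.Agent.Lib.PGroup.Basic
import Cfsg.Agent.Lib.PGroup.MacWilliams.Omega

/-!
A maximal normal abelian subgroup of exponent four and the lifting of generators.
-/

set_option autoImplicit false

namespace CfsgLib.PGroup.MacWilliams

open Subgroup

universe u

variable {P : Type u} [Group P] [Finite P]

/-- The data attached to a maximal normal abelian subgroup of exponent four. -/
structure Frame (P : Type u) [Group P] (A : Subgroup P) : Prop where
  isP : IsPGroup 2 P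
  normal : A.Normal
  comm : IsMulCommutative A
  exp : ∀ x ∈ A, x ^ 4 = 1
  omega : ∀ x ∈ centralizer (A : Set P), x ^ 4 = 1 → x ∈ A
  small : ∀ E : Subgroup P, E.Normal → IsMulCommutative E → (∀ a ∈ E, a ^ 2 = 1) → Nat.card E ≤ 4

theorem Frame.mul_comm {A : Subgroup P} (F : Frame P A) {x y : P} (hx : x ∈ A) (hy : y ∈ A) : x * y = y * x :=
  congrArg Subtype.val (F.comm.is_comm.comm ⟨x, hx⟩ ⟨y, hy⟩)

theorem Frame.le_centralizer {A : Subgroup P} (F : Frame P A) : A ≤ centralizer (A : Set P) :=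
  fun _ hx => mem_centralizer_iff.2 fun _ hy => F.mul_comm hy hx

theorem exists_frame (hP : IsPGroup 2 P)
    (h : ∀ A : Subgroup P, A.Normal → IsMulCommutative A → (∀ a ∈ A, a ^ 2 = 1) → Nat.card A ≤ 4) :
    ∃ A : Subgroup P, Frame P A := by
  classical
  haveI : Fact (Nat.Prime 2) := ⟨Nat.prime_two⟩
  let good : Set (Subgroup P) := {A | A.Normal ∧ IsMulCommutative A ∧ ∀ x ∈ A, x ^ 4 = 1}
  obtain ⟨A, hAg, hAmax⟩ := good.toFinite.exists_maximalFor (fun A : Subgroup P => Nat.card A) good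
    ⟨⊥, inferInstance, inferInstance, fun x hx => by rw [mem_bot.1 hx, one_pow]⟩
  obtain ⟨hAn, hAc, hAe⟩ := hAg
  haveI := hAn
  haveI := hAc
  refine ⟨A, hP, hAn, hAc, hAe, ?_, h⟩
  have hAC : A ≤ centralizer (A : Set P) := fun x hx => mem_centralizer_iff.2 fun y hy =>
    congrArg Subtype.val (hAc.is_comm.comm ⟨y, hy⟩ ⟨x, hx⟩)
  let U : P → Subgroup P := fun x => A ⊔ normalClosure {x}
  suffices key : ∀ (n : ℕ) (x : P), Nat.card (U x) = n → x ∈ centralizer (A : Set P) → x ^ 4 = 1 → x ∈ A from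
    fun x hx hx4 => key _ x rfl hx hx4
  intro n
  induction n using Nat.strong_induction_on with
  | _ n ih =>
  intro x hn hxC hx4
  by_contra hxA
  have hUC : U x ≤ centralizer (A : Set P) := sup_le hAC (normalClosure_le_normal (by simpa using hxC))
  have hxU : x ∈ U x := mem_sup_right (subset_normalClosure (Set.mem_singleton x))
  -- a maximal invariant subgroup of `U x`
  let below : Set (Subgroup P) := {M | M.Normal ∧ A ≤ M ∧ M < U x}
  obtain ⟨M, hMg, hMmax⟩ := below.toFinite.exists_maximal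
    ⟨A, hAn, le_rfl, lt_of_le_of_ne le_sup_left fun e => hxA (e ▸ hxU)⟩
  obtain ⟨hMn, hAM, hMU⟩ := hMg
  haveI := hMn
  set π := QuotientGroup.mk' M with hπ
  haveI : ((U x).map π).Normal := (inferInstance : (U x).Normal).map π (QuotientGroup.mk'_surjective M)
  have hne : (U x).map π ≠ ⊥ := by
    rw [Ne, Subgroup.map_eq_bot_iff, QuotientGroup.ker_mk']
    exact hMU.not_ge
  obtain ⟨z, hz, hzo⟩ := CfsgLib.PGroup.exists_orderOf_eq (hP.to_quotient M)
    (CfsgLib.PGroup.inf_center_ne_bot (hP.to_quotient M) _ hne)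
  haveI hzn : (zpowers z).Normal := ⟨fun y hy g => by
    obtain ⟨i, rfl⟩ := mem_zpowers_iff.1 hy
    have := mem_center_iff.1 ((center (P ⧸ M)).zpow_mem hz.2 i) g
    rw [this, mul_inv_cancel_right]
    exact zpow_mem (mem_zpowers z) i⟩
  haveI hMn' : ((zpowers z).comap π).Normal := hzn.comap π
  have hM' : U x ≤ (zpowers z).comap π := by
    have h1 : (zpowers z).comap π ≤ U x := by
      intro y hy
      obtain ⟨y', hy', e⟩ := (zpowers_le.2 hz.1 : zpowers z ≤ (U x).map π) hy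
      obtain ⟨m, hm, e'⟩ := (QuotientGroup.mk'_eq_mk' M).1 e
      rw [← e']
      exact mul_mem hy' (hMU.le hm)
    by_contra hlt
    have hmem : (zpowers z).comap π ∈ below :=
      ⟨hMn', hAM.trans (fun y hy => by
        show π y ∈ zpowers z
        rw [show π y = 1 from (QuotientGroup.eq_one_iff y).2 hy]; exact one_mem _),
       lt_of_le_of_ne h1 fun e => hlt e.ge⟩
    have hle : (zpowers z).comap π ≤ M := hMmax hmem fun y hy => by
      show π y ∈ zpowers z
      rw [show π y = 1 from (QuotientGroup.eq_one_iff y).2 hy]; exact one_mem _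
    obtain ⟨y, rfl⟩ := QuotientGroup.mk'_surjective M z
    have : π y = 1 := (QuotientGroup.eq_one_iff y).2 (hle (mem_zpowers (π y)))
    rw [this, orderOf_one] at hzo
    norm_num at hzo
  have hzz : ∀ v ∈ zpowers z, v * v = 1 ∧ v ∈ center (P ⧸ M) := by
    intro v hv
    obtain ⟨i, rfl⟩ := mem_zpowers_iff.1 hv
    refine ⟨?_, (center (P ⧸ M)).zpow_mem hz.2 i⟩
    rw [← zpow_add, ← orderOf_dvd_iff_zpow_eq_one, hzo]
    exact ⟨i, by push_cast; ring⟩
  obtain ⟨hx2, hxcen⟩ := hzz _ (hM' hxU)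
  have hxx : x * x ∈ M := (QuotientGroup.eq_one_iff _).1 (by rw [QuotientGroup.mk_mul]; exact hx2)
  -- small elements of `M` lie in `A`
  have hsmall : ∀ y ∈ M, y ^ 4 = 1 → y ∈ A := by
    intro y hy hy4
    have hle : U y ≤ M := sup_le hAM (normalClosure_le_normal (by simpa using hy))
    refine ih _ ?_ y rfl (hUC (hMU.le hy)) hy4
    rw [← hn]
    refine lt_of_le_of_lt (Subgroup.card_le_of_le hle) ?_
    by_contra! hge
    exact hMU.ne (eq_of_le_of_card_ge hMU.le hge)
  have hx4' : x * x * (x * x) = 1 := by rw [← pow_four]; exact hx4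
  have hxxA : x * x ∈ A := hsmall _ hxx (by rw [pow_four, hx4', one_mul])
  have hconj : ∀ g : P, x⁻¹ * (g * x * g⁻¹) ∈ A := by
    intro g
    set c := x⁻¹ * (g * x * g⁻¹) with hc
    have hcM : c ∈ M := by
      refine (QuotientGroup.eq_one_iff _).1 ?_
      have h1 := mem_center_iff.1 hxcen (π g)
      show π c = 1
      rw [hc, map_mul, map_mul, map_mul, map_inv, map_inv, h1]
      group
    have hcC : c ∈ centralizer (A : Set P) := hUC (hMU.le hcM)
    by_cases hc4 : c ^ 4 = 1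
    · exact hsmall c hcM hc4
    exfalso
    set γ := x⁻¹ * x⁻¹ * (g * (x * x) * g⁻¹) with hγ
    have hγA : γ ∈ A := mul_mem (by rw [← mul_inv_rev]; exact inv_mem hxxA) (hAn.conj_mem _ hxxA g)
    have hinv : x⁻¹ * c * x⁻¹⁻¹ = γ * c⁻¹ := by rw [hγ, hc]; group
    have hγ2 : γ * γ = 1 := by
      have hi : (x⁻¹ * x⁻¹) * (x⁻¹ * x⁻¹) = 1 := by rw [← mul_inv_rev, ← mul_inv_rev, hx4', inv_one]
      have hcom : Commute (g * (x * x) * g⁻¹) (x⁻¹ * x⁻¹) := congrArg Subtype.val (hAc.is_comm.comm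
        ⟨_, hAn.conj_mem _ hxxA g⟩ ⟨x⁻¹ * x⁻¹, by rw [← mul_inv_rev]; exact inv_mem hxxA⟩)
      rw [hγ, hcom.mul_mul_mul_comm, hi,
        show g * (x * x) * g⁻¹ * (g * (x * x) * g⁻¹) = g * (x * x * (x * x)) * g⁻¹ by group,
        hx4', mul_one, mul_inv_cancel, mul_one]
    obtain ⟨k, hk⟩ := IsPGroup.iff_orderOf.1 hP c
    have hk3 : 3 ≤ k := by
      by_contra! h3
      refine hc4 (orderOf_dvd_iff_pow_eq_one.1 ?_)
      rw [hk, show 4 = 2 ^ 2 by norm_num]
      exact pow_dvd_pow 2 (by omega)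
    set m := 2 ^ (k - 2) with hm
    have hm4 : m * 4 = 2 ^ k := by
      rw [hm, show 4 = 2 ^ 2 by norm_num, ← pow_add]; congr 1; omega
    have hcm4 : (c ^ m) ^ 4 = 1 := by rw [← pow_mul, hm4, ← hk, pow_orderOf_eq_one]
    have hcmA : c ^ m ∈ A := hsmall _ (pow_mem hcM m) hcm4
    have hfix : x⁻¹ * c ^ m * x⁻¹⁻¹ = c ^ m := by
      rw [inv_inv, mul_assoc, mem_centralizer_iff.1 hxC _ hcmA, ← mul_assoc, inv_mul_cancel, one_mul]
    have hγm : γ ^ m = 1 := by
      obtain ⟨j, hj⟩ : 2 ∣ m := hm ▸ dvd_pow_self 2 (by omega)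
      rw [hj, pow_mul, pow_two, hγ2, one_pow]
    rw [← conj_pow, hinv, (show Commute γ c⁻¹ from
      (show Commute γ c from mem_centralizer_iff.1 hcC _ hγA).inv_right).mul_pow,
      hγm, one_mul, inv_pow] at hfix
    have h2 : c ^ (m * 2) = 1 := by
      rw [pow_mul, pow_two]; nth_rewrite 1 [← hfix]; rw [inv_mul_cancel]
    have := orderOf_dvd_of_pow_eq_one h2
    rw [hk, ← hm4] at this
    have h4 := Nat.le_of_dvd (by positivity) this
    have : 0 < m := by positivity
    omega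
  -- `A⟨x⟩` contradicts the maximality
  set A' := closure ((A : Set P) ∪ {x}) with hA'
  have hAA' : A ≤ A' := fun y hy => subset_closure (Or.inl hy)
  have hxA' : x ∈ A' := subset_closure (Or.inr rfl)
  have hA'n : A'.Normal := ⟨fun y hy g => by
    induction hy using closure_induction with
    | mem z hz =>
      rcases hz with hz | rfl
      · exact hAA' (hAn.conj_mem z hz g)
      · rw [show g * z * g⁻¹ = z * (z⁻¹ * (g * z * g⁻¹)) by group]
        exact mul_mem hxA' (hAA' (hconj g))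
    | one => simp
    | mul z z' _ _ h1 h2 => rw [show g * (z * z') * g⁻¹ = g * z * g⁻¹ * (g * z' * g⁻¹) by group]; exact mul_mem h1 h2
    | inv z _ h1 => rw [show g * z⁻¹ * g⁻¹ = (g * z * g⁻¹)⁻¹ by group]; exact inv_mem h1⟩
  have hA'c : IsMulCommutative A' := isMulCommutative_closure (by
    rintro y (hy | rfl) z (hz | rfl)
    · exact congrArg Subtype.val (hAc.is_comm.comm ⟨y, hy⟩ ⟨z, hz⟩)
    · exact mem_centralizer_iff.1 hxC y hy
    · exact (mem_centralizer_iff.1 hxC z hz).symm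
    · rfl)
  have hA'e : ∀ y ∈ A', y ^ 4 = 1 := by
    intro y hy
    induction hy using closure_induction with
    | mem z hz => rcases hz with hz | rfl; exacts [hAe z hz, hx4]
    | one => exact one_pow 4
    | mul z z' hz hz' h1 h2 =>
      rw [(show Commute z z' from congrArg Subtype.val (hA'c.is_comm.comm ⟨z, hz⟩ ⟨z', hz'⟩)).mul_pow, h1, h2, one_mul]
    | inv z _ h1 => rw [inv_pow, h1, inv_one]
  have hle : Nat.card A' ≤ Nat.card A := hAmax (j := A') ⟨hA'n, hA'c, hA'e⟩ (Subgroup.card_le_of_le hAA')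
  exact hxA ((eq_of_le_of_card_ge hAA' hle).ge hxA')

/-- `H` is generated by four of its elements. -/
def Four (H : Subgroup P) : Prop := ∃ a b c d : P, a ∈ H ∧ b ∈ H ∧ c ∈ H ∧ d ∈ H ∧ H ≤ closure {a, b, c, d}

variable {A : Subgroup P}

theorem Frame.centralizer_om (F : Frame P A) {D : Subgroup P} (hD : D ≤ centralizer (A : Set P)) : Om D :=
  fun x hx y => Subtype.ext ((mem_centralizer_iff.1 (hD y.2) x (F.omega _ (hD x.2) (congrArg Subtype.val hx))))

theorem Frame.card_omega (F : Frame P A) {D : Subgroup P} (hD : D ≤ centralizer (A : Set P)) :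
    Nat.card (omegaOne (F.centralizer_om hD)) ≤ 4 := by
  set E := (omegaOne (F.centralizer_om (le_refl (centralizer (A : Set P))))).map (centralizer (A : Set P)).subtype with hE
  have hmem : ∀ x, x ∈ E ↔ x ∈ A ∧ x * x = 1 := by
    intro x
    constructor
    · rintro ⟨y, hy, rfl⟩
      have hy' : (y : P) * y = 1 := congrArg Subtype.val hy
      exact ⟨F.omega _ y.2 (by rw [pow_four]; show (y : P) * y * (y * y) = 1; rw [hy', one_mul]), hy'⟩
    · rintro ⟨hx, hx2⟩
      exact ⟨⟨x, F.le_centralizer hx⟩, Subtype.ext hx2, rfl⟩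
  have hEc : IsMulCommutative E := ⟨⟨fun x y => Subtype.ext (F.mul_comm ((hmem _).1 x.2).1 ((hmem _).1 y.2).1)⟩⟩
  have hEn : E.Normal := ⟨fun x hx g => (hmem _).2 ⟨F.normal.conj_mem x ((hmem x).1 hx).1 g, by
    rw [show g * x * g⁻¹ * (g * x * g⁻¹) = g * (x * x) * g⁻¹ by group, ((hmem x).1 hx).2, mul_one, mul_inv_cancel]⟩⟩
  refine le_trans ?_ (F.small E hEn hEc fun x hx => by rw [pow_two]; exact ((hmem x).1 hx).2)
  refine Nat.card_le_card_of_injective (fun d => ⟨((d : D) : P),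
    ⟨⟨((d : D) : P), hD (d : D).2⟩, Subtype.ext (show ((d : D) : P) * (d : D) = 1 from congrArg Subtype.val d.2), rfl⟩⟩)
    fun d e hde => Subtype.ext (Subtype.ext (congrArg (fun t : E => (t : P)) hde))

/-- Lifting two generators of the action. -/
theorem Frame.four_of_two (F : Frame P A) {H : Subgroup P} {g₁ g₂ : P} (h₁ : g₁ ∈ H) (h₂ : g₂ ∈ H)
    (hcov : ∀ h ∈ H, ∃ k ∈ closure ({g₁, g₂} : Set P), k⁻¹ * h ∈ centralizer (A : Set P)) : Four H := by
  set D := H ⊓ centralizer (A : Set P)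
  obtain ⟨a, b, hab⟩ := (exists_gen (F.isP.to_subgroup D) (F.centralizer_om inf_le_right) (F.card_omega inf_le_right)).1
  refine ⟨g₁, g₂, a, b, h₁, h₂, a.2.1, b.2.1, fun h hh => ?_⟩
  obtain ⟨k, hk, hkh⟩ := hcov h hh
  have hsub : ({g₁, g₂} : Set P) ⊆ {g₁, g₂, (a : P), (b : P)} := by
    rintro x (rfl | rfl) <;> simp
  have hkH : k ∈ H := (closure_le H).2 (by rintro x (rfl | rfl) <;> assumption) hk
  have hd : (⟨k⁻¹ * h, H.mul_mem (H.inv_mem hkH) hh, hkh⟩ : D) ∈ closure {a, b} := hab ▸ mem_top _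
  have hd' : k⁻¹ * h ∈ closure {g₁, g₂, (a : P), (b : P)} := by
    have h1 := Subgroup.mem_map_of_mem D.subtype hd
    rw [MonoidHom.map_closure] at h1
    refine closure_mono ?_ h1
    rintro x ⟨y, rfl | rfl, rfl⟩ <;> simp
  simpa using mul_mem (closure_mono hsub hk) hd'

/-- Lifting three generators whose span contains an element with non-square square. -/
theorem Frame.four_of_three (F : Frame P A) {H : Subgroup P} {g₁ g₂ g₃ v : P} (h₁ : g₁ ∈ H) (h₂ : g₂ ∈ H)
    (h₃ : g₃ ∈ H) (hv : v ∈ closure ({g₁, g₂, g₃} : Set P)) (hvC : v * v ∈ centralizer (A : Set P))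
    (hsq : ∀ d ∈ centralizer (A : Set P), v * v ≠ d * d)
    (hcov : ∀ h ∈ H, ∃ k ∈ closure ({g₁, g₂, g₃} : Set P), k⁻¹ * h ∈ centralizer (A : Set P)) : Four H := by
  set D := H ⊓ centralizer (A : Set P)
  have hle : closure ({g₁, g₂, g₃} : Set P) ≤ H := (closure_le H).2 (by rintro x (rfl | rfl | rfl) <;> assumption)
  obtain ⟨e, he⟩ := (exists_gen (F.isP.to_subgroup D) (F.centralizer_om inf_le_right) (F.card_omega inf_le_right)).2
    ⟨v * v, mul_mem (hle hv) (hle hv), hvC⟩ fun d hd => hsq d d.2.2 (congrArg Subtype.val hd)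
  refine ⟨g₁, g₂, g₃, e, h₁, h₂, h₃, e.2.1, fun h hh => ?_⟩
  obtain ⟨k, hk, hkh⟩ := hcov h hh
  have hsub : ({g₁, g₂, g₃} : Set P) ⊆ {g₁, g₂, g₃, (e : P)} := by
    rintro x (rfl | rfl | rfl) <;> simp
  have hd : (⟨k⁻¹ * h, H.mul_mem (H.inv_mem (hle hk)) hh, hkh⟩ : D) ∈
      closure {(⟨v * v, mul_mem (hle hv) (hle hv), hvC⟩ : D), e} := he ▸ mem_top _
  have hd' : k⁻¹ * h ∈ closure {g₁, g₂, g₃, (e : P)} := by
    have h1 := Subgroup.mem_map_of_mem D.subtype hd
    rw [MonoidHom.map_closure] at h1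
    refine (closure_le _).2 ?_ h1
    rintro x ⟨y, rfl | rfl, rfl⟩
    · exact mul_mem (closure_mono hsub hv) (closure_mono hsub hv)
    · exact subset_closure (by simp)
  simpa using mul_mem (closure_mono hsub hk) hd'

end CfsgLib.PGroup.MacWilliams
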