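import Mathlib
import Cfsg.Agent.Lib.PGroup.MacWilliams.Frame

/-!
The squares of the maximal subgroup form a group of order at most two.
-/

set_option autoImplicit false

namespace CfsgLib.PGroup.MacWilliams

open Subgroup

universe u

variable {P : Type u} [Group P] [Finite P] {A : Subgroup P}

/-- The elements of square one of `A`. -/
def Frame.inv2 (F : Frame P A) : Subgroup P where
  carrier := {z | z ∈ A ∧ z * z = 1}
  one_mem' := ⟨one_mem A, one_mul 1⟩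
  mul_mem' := fun {x y} hx hy => ⟨mul_mem hx.1 hy.1, by
    rw [(show Commute y x from F.mul_comm hy.1 hx.1).mul_mul_mul_comm, hx.2, hy.2, one_mul]⟩
  inv_mem' := fun {x} hx => ⟨inv_mem hx.1, by rw [← mul_inv_rev, hx.2, inv_one]⟩

theorem Frame.mem_inv2 (F : Frame P A) {z : P} : z ∈ F.inv2 ↔ z ∈ A ∧ z * z = 1 := Iff.rfl

theorem Frame.inv2_normal (F : Frame P A) : F.inv2.Normal :=
  ⟨fun x hx g => ⟨F.normal.conj_mem x hx.1 g, by
    rw [show g * x * g⁻¹ * (g * x * g⁻¹) = g * (x * x) * g⁻¹ by group, hx.2, mul_one, mul_inv_cancel]⟩⟩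

theorem Frame.card_inv2 (F : Frame P A) : Nat.card F.inv2 ≤ 4 :=
  F.small _ F.inv2_normal ⟨⟨fun x y => Subtype.ext (F.mul_comm x.2.1 y.2.1)⟩⟩ fun x hx => by rw [pow_two]; exact hx.2

theorem Frame.exists_w (F : Frame P A) {e : P} (he : e ∈ F.inv2) (he1 : e ≠ 1) :
    ∃ w ∈ F.inv2, ∀ z ∈ F.inv2, z = 1 ∨ z = e ∨ z = w ∨ z = e * w := by
  obtain ⟨w, hw⟩ := exists_pair F.card_inv2 (fun v => Subtype.ext v.2.2) (x := (⟨e, he⟩ : F.inv2))
  refine ⟨w, w.2, fun z hz => ?_⟩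
  rcases hw (fun h => he1 (congrArg Subtype.val h)) ⟨z, hz⟩ with h | h | h | h
  exacts [Or.inl (congrArg Subtype.val h), Or.inr (Or.inl (congrArg Subtype.val h)),
    Or.inr (Or.inr (Or.inl (congrArg Subtype.val h))), Or.inr (Or.inr (Or.inr (congrArg Subtype.val h)))]

/-- Elements outside the stabiliser of `w`. -/
theorem Frame.conj_w (F : Frame P A) {e w g : P} (he : ∀ g : P, g * e * g⁻¹ = e) (hw : w ∈ F.inv2)
    (hW : ∀ z ∈ F.inv2, z = 1 ∨ z = e ∨ z = w ∨ z = e * w) (hg : g * w * g⁻¹ ≠ w) : g * w * g⁻¹ = e * w := by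
  rcases hW _ (F.inv2_normal.conj_mem w hw g) with h | h | h | h
  · rw [conj_eq_one_iff] at h; subst h; simp at hg
  · have : w = e := by rw [← he g] at h; exact mul_left_cancel (mul_right_cancel h)
    subst this; exact absurd (he g) hg
  · exact absurd h hg
  · exact h

theorem Frame.stab_index (F : Frame P A) {e w g h : P} (he : ∀ g : P, g * e * g⁻¹ = e) (hw : w ∈ F.inv2)
    (hW : ∀ z ∈ F.inv2, z = 1 ∨ z = e ∨ z = w ∨ z = e * w) (hg : g * w * g⁻¹ ≠ w) (hh : h * w * h⁻¹ ≠ w) :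
    g⁻¹ * h * w * (g⁻¹ * h)⁻¹ = w := by
  rw [show g⁻¹ * h * w * (g⁻¹ * h)⁻¹ = g⁻¹ * (h * w * h⁻¹) * g by group, F.conj_w he hw hW hh,
    ← F.conj_w he hw hW hg]
  group

theorem Frame.conj_inv2 (F : Frame P A) {e w k : P} (he : ∀ g : P, g * e * g⁻¹ = e)
    (hW : ∀ z ∈ F.inv2, z = 1 ∨ z = e ∨ z = w ∨ z = e * w) (hk : k * w * k⁻¹ = w) {z : P} (hz : z ∈ F.inv2) :
    k * z * k⁻¹ = z := by
  rcases hW z hz with rfl | rfl | rfl | rfl
  · simp
  · exact he k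
  · exact hk
  · rw [show k * (e * w) * k⁻¹ = k * e * k⁻¹ * (k * w * k⁻¹) by group, he k, hk]

/-- The case in which the squares of `A` lie in a central subgroup of order two. -/
theorem Frame.four_small (F : Frame P A) {e w a : P} (he : ∀ g : P, g * e * g⁻¹ = e) (hw : w ∈ F.inv2)
    (hW : ∀ z ∈ F.inv2, z = 1 ∨ z = e ∨ z = w ∨ z = e * w) (heW : e ∈ F.inv2) (ha : a ∈ A)
    (ha2 : a * a = 1 ∨ a * a = e) (hA : ∀ z ∈ A, z ∈ F.inv2 ∨ z * a⁻¹ ∈ F.inv2) (H : Subgroup P) : Four H := by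
  classical
  set K := centralizer ({w} : Set P)
  have hK : ∀ k, k ∈ K ↔ k * w * k⁻¹ = w := fun k => by
    rw [mem_centralizer_singleton_iff, mul_inv_eq_iff_eq_mul]
  let D : P → P := fun k => k * a * k⁻¹ * a⁻¹
  have hD : ∀ k ∈ K, D k ∈ F.inv2 := by
    intro k hk
    refine ⟨mul_mem (F.normal.conj_mem a ha k) (inv_mem ha), ?_⟩
    show k * a * k⁻¹ * a⁻¹ * (k * a * k⁻¹ * a⁻¹) = 1
    rw [(show Commute a⁻¹ (k * a * k⁻¹) from F.mul_comm (inv_mem ha) (F.normal.conj_mem a ha k)).mul_mul_mul_comm,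
      show k * a * k⁻¹ * (k * a * k⁻¹) = k * (a * a) * k⁻¹ by group, ← mul_inv_rev]
    rcases ha2 with h | h <;> rw [h]
    · simp
    · rw [he, mul_inv_cancel]
  have hkz : ∀ k ∈ K, ∀ z ∈ A, z * a⁻¹ ∈ F.inv2 → k * z * k⁻¹ = D k * z := by
    intro k hk z hz hza
    have h1 := F.conj_inv2 he hW ((hK k).1 hk) hza
    calc k * z * k⁻¹ = k * (z * a⁻¹) * k⁻¹ * (k * a * k⁻¹) := by group
      _ = z * a⁻¹ * (D k * a) := by rw [h1]; simp only [D]; group
      _ = D k * a * (z * a⁻¹) := F.mul_comm hza.1 (mul_mem (hD k hk).1 ha)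
      _ = D k * (a * (z * a⁻¹)) := by group
      _ = D k * z := by rw [F.mul_comm ha hza.1]; group
  have hmul : ∀ k ∈ K, ∀ l ∈ K, D (k * l) = D k * D l := by
    intro k hk l hl
    have h1 : D l * a * a⁻¹ ∈ F.inv2 := by rw [mul_inv_cancel_right]; exact hD l hl
    calc D (k * l) = k * (l * a * l⁻¹) * k⁻¹ * a⁻¹ := by simp only [D]; group
      _ = k * (D l * a) * k⁻¹ * a⁻¹ := by simp only [D]; group
      _ = D k * (D l * a) * a⁻¹ := by rw [hkz k hk _ (mul_mem (hD l hl).1 ha) h1]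
      _ = D k * D l := by group
  have hinv : ∀ k ∈ K, D k⁻¹ = D k := by
    intro k hk
    have h1 := hmul k hk k⁻¹ (inv_mem hk)
    rw [mul_inv_cancel, show D 1 = 1 by simp [D]] at h1
    rw [← inv_eq_of_mul_eq_one_right h1.symm, inv_eq_of_mul_eq_one_right (hD k hk).2]
  have hker : ∀ k ∈ K, D k = 1 → k ∈ centralizer (A : Set P) := by
    intro k hk hk1
    refine mem_centralizer_iff.2 fun z hz => ?_
    have h1 : k * z * k⁻¹ = z := by
      rcases hA z hz with h | h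
      · exact F.conj_inv2 he hW ((hK k).1 hk) h
      · rw [hkz k hk z hz h, hk1, one_mul]
    exact (mul_inv_eq_iff_eq_mul.1 h1).symm
  have hconj : ∀ g : P, ∀ k ∈ K, D (g * k * g⁻¹) = g * D k * g⁻¹ := by
    intro g k hk
    have hz : g⁻¹ * a * g ∈ A := by simpa using F.normal.conj_mem a ha g⁻¹
    have h1 : k * (g⁻¹ * a * g) * k⁻¹ = D k * (g⁻¹ * a * g) := by
      rcases hA _ hz with h | h
      · have ha1 : a ∈ F.inv2 := by simpa [mul_assoc] using F.inv2_normal.conj_mem _ h g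
        have h3 : D k = 1 := by simp only [D]; rw [F.conj_inv2 he hW ((hK k).1 hk) ha1, mul_inv_cancel]
        rw [F.conj_inv2 he hW ((hK k).1 hk) h, h3, one_mul]
      · exact hkz k hk _ hz h
    calc D (g * k * g⁻¹) = g * (k * (g⁻¹ * a * g) * k⁻¹) * g⁻¹ * a⁻¹ := by simp only [D]; group
      _ = g * D k * g⁻¹ := by rw [h1]; group
  by_cases hg : ∃ g ∈ H, g ∉ K
  · obtain ⟨g, hgH, hgK⟩ := hg
    -- one further generator
    obtain ⟨k₁, hk₁H, hk₁K, hk₁⟩ : ∃ k ∈ H, k ∈ K ∧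
        ((∀ h ∈ H, h ∈ K → D h = 1 ∨ D h = e) ∧ ((∀ h ∈ H, h ∈ K → D h = 1) ∨ D k = e) ∨ D k = w ∨ D k = e * w) := by
      by_cases h1 : ∃ k ∈ H, k ∈ K ∧ (D k = w ∨ D k = e * w)
      · obtain ⟨k, hk, hk', h1⟩ := h1; exact ⟨k, hk, hk', Or.inr h1⟩
      push_neg at h1
      have h2 : ∀ h ∈ H, h ∈ K → D h = 1 ∨ D h = e := fun h hh hh' => by
        rcases hW _ (hD h hh') with e1 | e1 | e1 | e1
        exacts [Or.inl e1, Or.inr e1, absurd e1 (h1 h hh hh').1, absurd e1 (h1 h hh hh').2]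
      by_cases h3 : ∃ k ∈ H, k ∈ K ∧ D k = e
      · obtain ⟨k, hk, hk', h3⟩ := h3; exact ⟨k, hk, hk', Or.inl ⟨h2, Or.inr h3⟩⟩
      · push_neg at h3
        exact ⟨1, one_mem H, one_mem K, Or.inl ⟨h2, Or.inl fun h hh hh' => (h2 h hh hh').resolve_right (h3 h hh hh')⟩⟩
    set S := closure ({g, k₁} : Set P) with hS
    have hgS : g ∈ S := subset_closure (by simp)
    have hkS : k₁ ∈ S := subset_closure (by simp)
    have hgw := F.conj_w he hw hW (fun h => hgK ((hK g).2 h))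
    have hgk : g * k₁ * g⁻¹ ∈ K := (hK _).2 (by
      have h1 := F.conj_inv2 he hW ((hK k₁).1 hk₁K) (show g⁻¹ * w * g ∈ F.inv2 by
        simpa using F.inv2_normal.conj_mem w hw g⁻¹)
      calc g * k₁ * g⁻¹ * w * (g * k₁ * g⁻¹)⁻¹ = g * (k₁ * (g⁻¹ * w * g) * k₁⁻¹) * g⁻¹ := by group
        _ = w := by rw [h1]; group)
    have hcov : ∀ h ∈ H, h ∈ K → ∃ k ∈ S, k ∈ K ∧ D k = D h := by
      intro h hh hh'
      rcases hk₁ with ⟨h2, h3⟩ | h3
      · rcases h2 h hh hh' with h4 | h4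
        · exact ⟨1, one_mem S, one_mem K, by rw [h4]; simp [D]⟩
        · rcases h3 with h5 | h5
          · exact ⟨1, one_mem S, one_mem K, by rw [h5 h hh hh']; simp [D]⟩
          · exact ⟨k₁, hkS, hk₁K, by rw [h5, h4]⟩
      · have hee : e * e = 1 := heW.2
        have hk2 : D (g * k₁ * g⁻¹) = D k₁ * e := by
          rw [hconj g k₁ hk₁K]
          rcases h3 with h5 | h5 <;> rw [h5]
          · rw [hgw, F.mul_comm heW.1 hw.1]
          · rw [show g * (e * w) * g⁻¹ = g * e * g⁻¹ * (g * w * g⁻¹) by group, he, hgw,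
              F.mul_comm heW.1 (mul_mem heW.1 hw.1)]
        have hgkS : g * k₁ * g⁻¹ ∈ S := mul_mem (mul_mem hgS hkS) (inv_mem hgS)
        have he' : D (k₁ * (g * k₁ * g⁻¹)) = e := by
          rw [hmul _ hk₁K _ hgk, hk2, ← mul_assoc, (hD _ hk₁K).2, one_mul]
        rcases hW _ (hD h hh') with h4 | h4 | h4 | h4
        · exact ⟨1, one_mem S, one_mem K, by rw [h4]; simp [D]⟩
        · exact ⟨_, mul_mem hkS hgkS, mul_mem hk₁K hgk, he'.trans h4.symm⟩
        all_goals rcases h3 with h5 | h5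
        · exact ⟨k₁, hkS, hk₁K, h5.trans h4.symm⟩
        · exact ⟨_, hgkS, hgk, by rw [hk2, h5, h4, F.mul_comm (mul_mem heW.1 hw.1) heW.1, ← mul_assoc, hee, one_mul]⟩
        · exact ⟨_, hgkS, hgk, by rw [hk2, h5, h4, F.mul_comm hw.1 heW.1]⟩
        · exact ⟨k₁, hkS, hk₁K, h5.trans h4.symm⟩
    refine F.four_of_two hgH hk₁H fun h hh => ?_
    obtain ⟨s, hs, hsK⟩ : ∃ s ∈ S, s⁻¹ * h ∈ K := by
      by_cases hhK : h ∈ K
      · exact ⟨1, one_mem S, by simpa using hhK⟩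
      · exact ⟨g, hgS, (hK _).2 (F.stab_index he hw hW (fun e => hgK ((hK g).2 e)) fun e => hhK ((hK h).2 e))⟩
    have hsH : s ∈ H := (closure_le H).2 (by rintro x (rfl | rfl) <;> assumption) hs
    obtain ⟨k, hk, hkK, hkD⟩ := hcov _ (mul_mem (inv_mem hsH) hh) hsK
    refine ⟨s * k, mul_mem hs hk, hker _ ?_ ?_⟩
    · rw [show (s * k)⁻¹ * h = k⁻¹ * (s⁻¹ * h) by group]; exact mul_mem (inv_mem hkK) hsK
    · rw [show (s * k)⁻¹ * h = k⁻¹ * (s⁻¹ * h) by group, hmul _ (inv_mem hkK) _ hsK, hinv k hkK, ← hkD, (hD k hkK).2]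
  push_neg at hg
  obtain ⟨k₁, hk₁, hk₁p⟩ : ∃ k ∈ H, (D k = w ∨ D k = e * w) ∨ ∀ h ∈ H, D h ≠ w ∧ D h ≠ e * w := by
    by_cases h1 : ∃ k ∈ H, D k = w ∨ D k = e * w
    · obtain ⟨k, hk, h1⟩ := h1; exact ⟨k, hk, Or.inl h1⟩
    · push_neg at h1; exact ⟨1, one_mem H, Or.inr h1⟩
  obtain ⟨k₂, hk₂, hk₂p⟩ : ∃ k ∈ H, D k = e ∨ ∀ h ∈ H, D h ≠ e := by
    by_cases h1 : ∃ k ∈ H, D k = e
    · obtain ⟨k, hk, h1⟩ := h1; exact ⟨k, hk, Or.inl h1⟩
    · push_neg at h1; exact ⟨1, one_mem H, Or.inr h1⟩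
  refine F.four_of_two hk₁ hk₂ fun h hh => ?_
  set S := closure ({k₁, k₂} : Set P)
  have h1S : k₁ ∈ S := subset_closure (by simp)
  have h2S : k₂ ∈ S := subset_closure (by simp)
  have fin : ∀ k ∈ S, D k = D h → ∃ k ∈ S, k⁻¹ * h ∈ centralizer (A : Set P) := by
    intro k hk hkD
    have hkH : k ∈ H := (closure_le H).2 (by rintro x (rfl | rfl) <;> assumption) hk
    refine ⟨k, hk, hker _ (mul_mem (inv_mem (hg k hkH)) (hg h hh)) ?_⟩
    rw [hmul _ (inv_mem (hg k hkH)) _ (hg h hh), hinv k (hg k hkH), ← hkD, (hD k (hg k hkH)).2]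
  have hew : ∀ x : P, D h = x * D k₁ → ∃ k ∈ H, D k = x := fun x hx =>
    ⟨h * k₁, mul_mem hh hk₁, by rw [hmul _ (hg h hh) _ (hg k₁ hk₁), hx, mul_assoc, (hD _ (hg k₁ hk₁)).2, mul_one]⟩
  rcases hW _ (hD h (hg h hh)) with h4 | h4 | h4 | h4
  · exact fin 1 (one_mem S) (by rw [h4]; simp [D])
  · rcases hk₂p with h5 | h5
    · exact fin k₂ h2S (h5.trans h4.symm)
    · exact absurd h4 (h5 h hh)
  all_goals
    have h6 : D k₁ = D h ∨ D h = e * D k₁ := by
      rcases hk₁p with (h5 | h5) | h5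
      · first
          | exact Or.inl (h5.trans h4.symm)
          | exact Or.inr (by rw [h5, h4])
      · first
          | exact Or.inl (h5.trans h4.symm)
          | exact Or.inr (by rw [h5, h4, ← mul_assoc, heW.2, one_mul])
      · first
          | exact absurd h4 (h5 h hh).1
          | exact absurd h4 (h5 h hh).2
    rcases h6 with h6 | h6
    · exact fin k₁ h1S h6
    · obtain ⟨k, hk, hk'⟩ := hew e h6
      rcases hk₂p with h5 | h5
      · exact fin (k₂ * k₁) (mul_mem h2S h1S) (by rw [hmul _ (hg k₂ hk₂) _ (hg k₁ hk₁), h5, h6])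
      · exact absurd hk' (h5 k hk)

end CfsgLib.PGroup.MacWilliams
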