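import Mathlib
import Cfsg.Agent.Lib.PGroup.MacWilliams.Small

/-!
The case of a homocyclic maximal subgroup of exponent four and rank two.
-/

set_option autoImplicit false

namespace CfsgLib.PGroup.MacWilliams

open Subgroup

universe u

/-- Pairs of bits. -/
abbrev Bits : Type := ZMod 2 × ZMod 2

/-- Codes of the action of the stabiliser. -/
abbrev Code : Type := Bits × Bits

/-- The linear map given by a code. -/
def phi (c : Code) (q : Bits) : Bits := (q.1 * c.1.1 + q.2 * c.2.1, q.1 * c.1.2 + q.2 * c.2.2)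

/-- The action of an element outside the stabiliser. -/
def sig (c : Code) : Code :=
  (((c.1 + c.2).1, (c.1 + c.2).2 + (c.1 + c.2).1), (c.2.1, c.2.2 + c.2.1))

/-- No inverted elements. -/
def good (c : Code) : Prop := ∀ q, phi c q = q → q = 0

/-- No fixed elements. -/
def noFix (c : Code) : Prop := ∀ q, phi c q = 0 → q = 0

instance (c : Code) : Decidable (good c) := inferInstanceAs (Decidable (∀ q, _))

instance (c : Code) : Decidable (noFix c) := inferInstanceAs (Decidable (∀ q, _))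

theorem phi_surj : ∀ c, good c → ∀ v, ∃ q, phi c q + q = v := by decide

theorem phi_add : ∀ c d q, phi (c + d) q = phi c q + phi d q := fun c d q => by
  simp only [phi, Prod.fst_add, Prod.snd_add, Prod.mk_add_mk]; ring_nf

theorem bits_cases : ∀ q : Bits, q = (0, 0) ∨ q = (1, 0) ∨ q = (0, 1) ∨ q = (1, 1) := by decide

/-- The fixed nilpotent code. -/
def nil0 : Code := ((0, 1), (0, 0))

/-- A code of order three. -/
def omg : Code := ((0, 1), (1, 1))

section AddGroupFacts

variable {V T : AddSubgroup Code}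

theorem card_cases (V : AddSubgroup Code) :
    Nat.card V ≤ 2 ∨ Nat.card V = 4 ∨ Nat.card V = 8 ∨ Nat.card V = 16 := by
  have h : Nat.card V ∣ 2 ^ 4 := by
    have := AddSubgroup.card_addSubgroup_dvd_card V
    rwa [show Nat.card Code = 2 ^ 4 by simp] at this
  obtain ⟨i, hi, e⟩ := (Nat.dvd_prime_pow Nat.prime_two).1 h
  interval_cases i <;> simp [e]

theorem grow (h : T < V) : 2 * Nat.card T ≤ Nat.card V := by
  obtain ⟨k, hk⟩ := AddSubgroup.card_dvd_of_le h.le
  have h0 : 0 < Nat.card T := Nat.card_pos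
  rcases k with _ | _ | k
  · have : 0 < Nat.card V := Nat.card_pos
    omega
  · exact absurd (AddSubgroup.eq_of_le_of_card_ge h.le (by omega)) h.ne
  · rw [hk]
    exact le_of_le_of_eq (Nat.mul_le_mul_right _ (by omega : 2 ≤ k + 1 + 1)) (mul_comm _ _)

theorem exists_next (hT : T ≤ V) : ∃ x ∈ V, V ≤ T ∨ 2 * Nat.card T ≤ Nat.card ↥(T ⊔ AddSubgroup.closure {x}) := by
  by_cases h : V ≤ T
  · exact ⟨0, zero_mem V, Or.inl h⟩
  · obtain ⟨x, hx, hxT⟩ := SetLike.not_le_iff_exists.1 h
    refine ⟨x, hx, Or.inr (grow (lt_of_le_of_ne le_sup_left fun e => hxT ?_))⟩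
    exact e ▸ AddSubgroup.mem_sup_right (AddSubgroup.subset_closure rfl)

theorem fill (hT : T ≤ V) {n : ℕ} (hV : Nat.card V ≤ 2 * n) (hn : n ≤ Nat.card T) :
    ∃ x ∈ V, V ≤ T ⊔ AddSubgroup.closure {x} := by
  obtain ⟨x, hx, h | h⟩ := exists_next hT
  · exact ⟨x, hx, h.trans le_sup_left⟩
  · exact ⟨x, hx, (AddSubgroup.eq_of_le_of_card_ge (sup_le hT ((AddSubgroup.closure_le V).2 (by simpa using hx)))
      (by omega)).ge⟩

theorem card_closure_pair {t t' : Code} (ht : t ≠ 0) (h : t' ∉ AddSubgroup.closure {t}) :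
    4 ≤ Nat.card ↥(AddSubgroup.closure {t} ⊔ AddSubgroup.closure {t'}) := by
  have h1 : 2 ≤ Nat.card ↥(AddSubgroup.closure {t}) := by
    have := grow (T := ⊥) (V := AddSubgroup.closure {t}) (bot_lt_iff_ne_bot.2 fun e => ht ?_)
    · rwa [AddSubgroup.card_bot, mul_one] at this
    · have h2 : t ∈ AddSubgroup.closure {t} := AddSubgroup.subset_closure rfl
      rwa [e, AddSubgroup.mem_bot] at h2
  have h3 := grow (T := AddSubgroup.closure {t}) (V := AddSubgroup.closure {t} ⊔ AddSubgroup.closure {t'})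
    (lt_of_le_of_ne le_sup_left fun e => h (e ▸ AddSubgroup.mem_sup_right (AddSubgroup.subset_closure rfl)))
  omega

end AddGroupFacts

variable {P : Type u} [Group P] [Finite P] {A : Subgroup P}

/-- Coordinates for `A`. -/
structure Coords (F : Frame P A) (e w a b : P) : Prop where
  central : ∀ g : P, g * e * g⁻¹ = e
  memE : e ∈ F.inv2
  memW : w ∈ F.inv2
  neE : e ≠ 1
  neW : w ≠ 1
  ne : w ≠ e
  all : ∀ z ∈ F.inv2, z = 1 ∨ z = e ∨ z = w ∨ z = e * w
  memA : a ∈ A
  memB : b ∈ A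
  sqA : a * a = w
  sqB : b * b = e

namespace Coords

variable {F : Frame P A} {e w a b : P}

/-- The elements of square one. -/
def emb (_ : Coords F e w a b) (q : Bits) : P := w ^ q.1.val * e ^ q.2.val

/-- Representatives of the cosets of the elements of square one. -/
def rep (_ : Coords F e w a b) (q : Bits) : P := a ^ q.1.val * b ^ q.2.val

theorem emb_add (h : Coords F e w a b) (q r : Bits) : h.emb (q + r) = h.emb q * h.emb r := by
  have h1 : e ^ 2 = 1 := by rw [pow_two]; exact h.memE.2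
  have h2 : w ^ 2 = 1 := by rw [pow_two]; exact h.memW.2
  simp only [emb, Prod.fst_add, Prod.snd_add, ZMod.val_add]
  rw [← pow_eq_pow_mod _ h2, ← pow_eq_pow_mod _ h1, pow_add, pow_add,
    ((show Commute e w from F.mul_comm h.memE.1 h.memW.1).pow_pow _ _).mul_mul_mul_comm]

theorem emb_mem (h : Coords F e w a b) (q : Bits) : h.emb q ∈ F.inv2 :=
  mul_mem (pow_mem h.memW _) (pow_mem h.memE _)

theorem emb_inj (h : Coords F e w a b) : Function.Injective h.emb := by
  have hne : ∀ q, h.emb q = 1 → q = 0 := fun q hq => by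
    have v1 : (1 : ZMod 2).val = 1 := rfl
    rcases bits_cases q with rfl | rfl | rfl | rfl
    · rfl
    all_goals exfalso; simp [emb, v1] at hq
    · exact h.neW hq
    · exact h.neE hq
    · exact h.ne ((eq_inv_of_mul_eq_one_left hq).trans (inv_eq_of_mul_eq_one_right h.memE.2))
  intro q r hqr
  have h1 := hne (q + r) (by rw [h.emb_add, hqr, (h.emb_mem r).2])
  have h2 : ∀ q r : Bits, q + r = 0 → q = r := by decide
  exact h2 q r h1

theorem emb_surj (h : Coords F e w a b) {z : P} (hz : z ∈ F.inv2) : ∃ q, h.emb q = z := by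
  have v1 : (1 : ZMod 2).val = 1 := rfl
  rcases h.all z hz with rfl | rfl | rfl | rfl
  · exact ⟨0, by simp [emb]⟩
  · exact ⟨(0, 1), by simp [emb, v1]⟩
  · exact ⟨(1, 0), by simp [emb, v1]⟩
  · exact ⟨(1, 1), by simp [emb, v1, F.mul_comm h.memE.1 h.memW.1]⟩

theorem emb_zero (h : Coords F e w a b) : h.emb 0 = 1 := by simp [emb]

theorem rep_sq (h : Coords F e w a b) (q : Bits) : h.rep q * h.rep q = h.emb q := by
  unfold rep emb
  rw [(show Commute (b ^ q.2.val) (a ^ q.1.val) from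
    (show Commute b a from F.mul_comm h.memB h.memA).pow_pow _ _).mul_mul_mul_comm,
    ← (Commute.refl a).mul_pow, ← (Commute.refl b).mul_pow, h.sqA, h.sqB]

theorem rep_mem (h : Coords F e w a b) (q : Bits) : h.rep q ∈ A := mul_mem (pow_mem h.memA _) (pow_mem h.memB _)

/-- The inverse of `emb`. -/
noncomputable def bits (h : Coords F e w a b) (z : P) : Bits := Function.invFun h.emb z

theorem emb_bits (h : Coords F e w a b) {z : P} (hz : z ∈ F.inv2) : h.emb (h.bits z) = z :=
  Function.invFun_eq (h.emb_surj hz)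

theorem bits_emb (h : Coords F e w a b) (q : Bits) : h.bits (h.emb q) = q :=
  Function.leftInverse_invFun h.emb_inj q

theorem sq_mem (_ : Coords F e w a b) {z : P} (hz : z ∈ A) : z * z ∈ F.inv2 :=
  ⟨mul_mem hz hz, by rw [← pow_four]; exact F.exp z hz⟩

theorem exists_rep (h : Coords F e w a b) {z : P} (hz : z ∈ A) :
    ∃ q, h.emb q = z * z ∧ z * (h.rep q)⁻¹ ∈ F.inv2 := by
  obtain ⟨q, hq⟩ := h.emb_surj (h.sq_mem hz)
  refine ⟨q, hq, mul_mem hz (inv_mem (h.rep_mem q)), ?_⟩
  rw [(show Commute (h.rep q)⁻¹ z from F.mul_comm (inv_mem (h.rep_mem q)) hz).mul_mul_mul_comm, ← mul_inv_rev,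
    h.rep_sq, hq, mul_inv_cancel]

/-- The stabiliser of `w`. -/
def K (_ : Coords F e w a b) : Subgroup P := centralizer {w}

theorem mem_K (h : Coords F e w a b) {k : P} : k ∈ h.K ↔ k * w * k⁻¹ = w := by
  rw [K, mem_centralizer_singleton_iff, mul_inv_eq_iff_eq_mul]

theorem fix (h : Coords F e w a b) {k : P} (hk : k ∈ h.K) {z : P} (hz : z ∈ F.inv2) : k * z * k⁻¹ = z :=
  F.conj_inv2 h.central h.all (h.mem_K.1 hk) hz

theorem centralizer_le_K (h : Coords F e w a b) : centralizer (A : Set P) ≤ h.K :=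
  centralizer_le (Set.singleton_subset_iff.2 h.memW.1)

theorem K_conj (h : Coords F e w a b) {k : P} (hk : k ∈ h.K) (g : P) : g * k * g⁻¹ ∈ h.K := by
  have h1 := h.fix hk (show g⁻¹ * w * g ∈ F.inv2 by simpa using F.inv2_normal.conj_mem w h.memW g⁻¹)
  refine h.mem_K.2 ?_
  calc g * k * g⁻¹ * w * (g * k * g⁻¹)⁻¹ = g * (k * (g⁻¹ * w * g) * k⁻¹) * g⁻¹ := by group
    _ = w := by rw [h1]; group

/-- The code of an element of the stabiliser. -/
noncomputable def code (h : Coords F e w a b) (k : P) : Code :=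
  (h.bits (k * a * k⁻¹ * a⁻¹), h.bits (k * b * k⁻¹ * b⁻¹))

theorem disp_mem (h : Coords F e w a b) {k : P} (hk : k ∈ h.K) {z : P} (hz : z ∈ A) : k * z * k⁻¹ * z⁻¹ ∈ F.inv2 := by
  refine ⟨mul_mem (F.normal.conj_mem z hz k) (inv_mem hz), ?_⟩
  rw [(show Commute z⁻¹ (k * z * k⁻¹) from F.mul_comm (inv_mem hz) (F.normal.conj_mem z hz k)).mul_mul_mul_comm,
    show k * z * k⁻¹ * (k * z * k⁻¹) = k * (z * z) * k⁻¹ by group, h.fix hk (h.sq_mem hz), ← mul_inv_rev, mul_inv_cancel]

theorem act (h : Coords F e w a b) {k : P} (hk : k ∈ h.K) {z : P} (hz : z ∈ A) :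
    k * z * k⁻¹ = h.emb (phi (h.code k) (h.bits (z * z))) * z := by
  obtain ⟨q, hq, ht⟩ := h.exists_rep hz
  rw [← hq, h.bits_emb]
  have ha := h.emb_bits (h.disp_mem hk h.memA)
  have hb := h.emb_bits (h.disp_mem hk h.memB)
  have hrep : k * h.rep q * k⁻¹ = h.emb (phi (h.code k) q) * h.rep q := by
    have hab : k * (a * b) * k⁻¹ = h.emb ((h.code k).1 + (h.code k).2) * (a * b) := by
      rw [h.emb_add, code, ha, hb,
        (show Commute (k * b * k⁻¹ * b⁻¹) a from F.mul_comm (h.disp_mem hk h.memB).1 h.memA).mul_mul_mul_comm]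
      group
    have v1 : (1 : ZMod 2).val = 1 := rfl
    rcases bits_cases q with rfl | rfl | rfl | rfl <;>
      simp only [rep, phi, v1, ZMod.val_zero, pow_zero, pow_one, one_mul, mul_one, zero_mul, zero_add, add_zero]
    · simp [show ((0 : ZMod 2), (0 : ZMod 2)) = (0 : Bits) from rfl, h.emb_zero]
    · simp only [code]; rw [Prod.mk.eta, ha, inv_mul_cancel_right]
    · simp only [code]; rw [Prod.mk.eta, hb, inv_mul_cancel_right]
    · exact hab
  calc k * z * k⁻¹ = k * (z * (h.rep q)⁻¹) * k⁻¹ * (k * h.rep q * k⁻¹) := by group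
    _ = z * (h.rep q)⁻¹ * (h.emb (phi (h.code k) q) * h.rep q) := by rw [h.fix hk ht, hrep]
    _ = h.emb (phi (h.code k) q) * h.rep q * (z * (h.rep q)⁻¹) :=
        F.mul_comm ht.1 (mul_mem (h.emb_mem _).1 (h.rep_mem q))
    _ = _ := by rw [mul_assoc, F.mul_comm (h.rep_mem q) ht.1, inv_mul_cancel_right]

theorem bits_eq (h : Coords F e w a b) {z : P} {q : Bits} (hz : z = h.emb q) : h.bits z = q := by
  rw [hz, h.bits_emb]

theorem bits_wa (h : Coords F e w a b) : h.bits (a * a) = (1, 0) := h.bits_eq (by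
  rw [h.sqA]; simp [emb, show (1 : ZMod 2).val = 1 from rfl])

theorem bits_eb (h : Coords F e w a b) : h.bits (b * b) = (0, 1) := h.bits_eq (by
  rw [h.sqB]; simp [emb, show (1 : ZMod 2).val = 1 from rfl])

theorem code_mul (h : Coords F e w a b) {k l : P} (hk : k ∈ h.K) (hl : l ∈ h.K) :
    h.code (k * l) = h.code k + h.code l := by
  have key : ∀ z ∈ A, h.bits (k * l * z * (k * l)⁻¹ * z⁻¹) =
      phi (h.code k) (h.bits (z * z)) + phi (h.code l) (h.bits (z * z)) := by
    intro z hz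
    refine h.bits_eq ?_
    rw [h.emb_add, show k * l * z * (k * l)⁻¹ = k * (l * z * l⁻¹) * k⁻¹ by group, h.act hl hz,
      show k * (h.emb (phi (h.code l) (h.bits (z * z))) * z) * k⁻¹ =
        k * h.emb (phi (h.code l) (h.bits (z * z))) * k⁻¹ * (k * z * k⁻¹) by group,
      h.fix hk (h.emb_mem _), h.act hk hz, ← mul_assoc, mul_inv_cancel_right]
    exact F.mul_comm (h.emb_mem _).1 (h.emb_mem _).1
  have e1 := key a h.memA
  have e2 := key b h.memB
  rw [h.bits_wa] at e1
  rw [h.bits_eb] at e2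
  simp only [phi, one_mul, zero_mul, add_zero, zero_add, Prod.mk.eta] at e1 e2
  exact Prod.ext e1 e2

theorem code_one (h : Coords F e w a b) : h.code 1 = 0 := by
  refine Prod.ext ?_ ?_ <;> exact h.bits_eq (by simp [h.emb_zero])

theorem code_inv (h : Coords F e w a b) {k : P} (hk : k ∈ h.K) : h.code k⁻¹ = h.code k := by
  have h1 := h.code_mul hk (inv_mem hk)
  rw [mul_inv_cancel, h.code_one] at h1
  have h2 : ∀ c d : Code, 0 = c + d → d = c := by decide
  exact h2 _ _ h1

theorem code_zero (h : Coords F e w a b) {k : P} (hk : k ∈ centralizer (A : Set P)) : h.code k = 0 := by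
  have h1 := fun z (hz : z ∈ A) => mem_centralizer_iff.1 hk z hz
  refine Prod.ext ?_ ?_ <;> refine h.bits_eq ?_
  · simp [h.emb_zero, ← h1 a h.memA]
  · simp [h.emb_zero, ← h1 b h.memB]

theorem of_code_zero (h : Coords F e w a b) {k : P} (hk : k ∈ h.K) (hc : h.code k = 0) :
    k ∈ centralizer (A : Set P) := mem_centralizer_iff.2 fun z hz => by
  have h1 := h.act hk hz
  have h2 : ∀ q, phi 0 q = 0 := by decide
  rw [hc, h2, h.emb_zero, one_mul] at h1
  exact (mul_inv_eq_iff_eq_mul.1 h1).symm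

open scoped Classical in
theorem code_conj (h : Coords F e w a b) (g : P) {k : P} (hk : k ∈ h.K) :
    h.code (g * k * g⁻¹) = if g ∈ h.K then h.code k else sig (h.code k) := by
  have key : ∀ z ∈ A, h.bits (g * k * g⁻¹ * z * (g * k * g⁻¹)⁻¹ * z⁻¹) =
      h.bits (g * h.emb (phi (h.code k) (h.bits (g⁻¹ * (z * z) * g))) * g⁻¹) := by
    intro z hz
    have hz' : g⁻¹ * z * g ∈ A := by simpa using F.normal.conj_mem z hz g⁻¹
    congr 1
    rw [show g * k * g⁻¹ * z * (g * k * g⁻¹)⁻¹ = g * (k * (g⁻¹ * z * g) * k⁻¹) * g⁻¹ by group, h.act hk hz',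
      show g⁻¹ * z * g * (g⁻¹ * z * g) = g⁻¹ * (z * z) * g by group]
    group
  by_cases hg : g ∈ h.K
  · rw [if_pos hg]
    have hfix : ∀ y ∈ F.inv2, g⁻¹ * y * g = y := fun y hy => by simpa using h.fix (inv_mem hg) hy
    have e1 := key a h.memA
    have e2 := key b h.memB
    rw [hfix _ (h.sq_mem h.memA), h.bits_wa, h.fix hg (h.emb_mem _), h.bits_emb] at e1
    rw [hfix _ (h.sq_mem h.memB), h.bits_eb, h.fix hg (h.emb_mem _), h.bits_emb] at e2
    simp only [phi, one_mul, zero_mul, add_zero, zero_add, Prod.mk.eta] at e1 e2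
    exact Prod.ext e1 e2
  · rw [if_neg hg]
    have hgi : g⁻¹ ∉ h.K := fun h' => hg (by simpa using inv_mem h')
    have hgw := F.conj_w h.central h.memW h.all (fun h' => hg (h.mem_K.2 h'))
    have hgw' := F.conj_w h.central h.memW h.all (fun h' => hgi (h.mem_K.2 h'))
    rw [inv_inv] at hgw'
    have hee : g⁻¹ * e * g = e := by simpa using h.central g⁻¹
    have v1 : (1 : ZMod 2).val = 1 := rfl
    have hew : e * w = h.emb (1, 1) := by simp [emb, v1, F.mul_comm h.memE.1 h.memW.1]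
    have hmove : ∀ q : Bits, g * h.emb q * g⁻¹ = h.emb (q.1, q.2 + q.1) := by
      intro q
      have v2 : ((1 : ZMod 2) + 1).val = 0 := rfl
      rcases bits_cases q with rfl | rfl | rfl | rfl
      · simp [emb]
      · simp [emb, v1, hgw, F.mul_comm h.memE.1 h.memW.1]
      · simp [emb, v1, h.central g]
      · simp only [emb, v1, v2, pow_one, pow_zero, mul_one]
        rw [show g * (w * e) * g⁻¹ = g * w * g⁻¹ * (g * e * g⁻¹) by group, hgw, h.central,
          F.mul_comm h.memE.1 h.memW.1, mul_assoc, h.memE.2, mul_one]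
    have e1 := key a h.memA
    have e2 := key b h.memB
    rw [h.sqA, hgw', hew, h.bits_emb, hmove, h.bits_emb] at e1
    rw [h.sqB, hee, h.bits_eq (z := e) (q := (0, 1)) (by simp [emb, v1]), hmove, h.bits_emb] at e2
    simp only [phi, one_mul, zero_mul, add_zero, zero_add, Prod.mk.eta] at e1 e2
    exact Prod.ext e1 e2

/-- Fixed elements of a code without fixed vectors. -/
theorem fixed_sq (h : Coords F e w a b) {x : P} (hx : x ∈ h.K) (hc : noFix (h.code x)) :
    ∀ (n : ℕ) (c : P), c ^ 2 ^ n = 1 → c ∈ centralizer (A : Set P) → x * c * x⁻¹ = c → c * c = 1 := by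
  intro n
  induction n with
  | zero => intro c hc1 _ _; simp at hc1; simp [hc1]
  | succ n ih =>
    intro c hc1 hcC hcx
    have h1 : (c * c) * (c * c) = 1 := ih (c * c) (by rw [← pow_two, ← pow_mul, ← pow_succ']; exact hc1)
      (mul_mem hcC hcC) (by rw [show x * (c * c) * x⁻¹ = x * c * x⁻¹ * (x * c * x⁻¹) by group, hcx])
    have hcA : c ∈ A := F.omega c hcC (by rw [pow_four, h1])
    have h2 := h.act hx hcA
    rw [hcx] at h2
    have h3 := hc _ (h.emb_inj (by rw [h.emb_zero]; exact (mul_eq_right.1 h2.symm)))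
    rw [← h.emb_bits (h.sq_mem hcA), h3, h.emb_zero]

/-- Inverted elements of a good code. -/
theorem inv_sq (h : Coords F e w a b) {x : P} (hx : x ∈ h.K) (hc : good (h.code x)) :
    ∀ (n : ℕ) (c : P), c ^ 2 ^ n = 1 → c ∈ centralizer (A : Set P) → x * c * x⁻¹ = c⁻¹ → c * c = 1 := by
  intro n
  induction n with
  | zero => intro c hc1 _ _; simp at hc1; simp [hc1]
  | succ n ih =>
    intro c hc1 hcC hcx
    have h1 : (c * c) * (c * c) = 1 := ih (c * c) (by rw [← pow_two, ← pow_mul, ← pow_succ']; exact hc1)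
      (mul_mem hcC hcC) (by rw [show x * (c * c) * x⁻¹ = x * c * x⁻¹ * (x * c * x⁻¹) by group, hcx, mul_inv_rev])
    have hcA : c ∈ A := F.omega c hcC (by rw [pow_four, h1])
    have h2 := h.act hx hcA
    rw [hcx] at h2
    have h4 : h.emb (phi (h.code x) (h.bits (c * c))) = h.emb (h.bits (c * c)) := by
      rw [h.emb_bits (h.sq_mem hcA), eq_mul_inv_of_mul_eq h2.symm, ← mul_inv_rev]
      exact inv_eq_of_mul_eq_one_right h1
    rw [← h.emb_bits (h.sq_mem hcA), hc _ (h.emb_inj h4), h.emb_zero]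

/-- Two involutions with the same good code differ by an element of square one. -/
theorem diff_mem (h : Coords F e w a b) {x y : P} (hx : x ∈ h.K) (hy : y ∈ h.K) (hx2 : x * x = 1) (hy2 : y * y = 1)
    (hg : good (h.code x)) (he : h.code y = h.code x) : x⁻¹ * y ∈ F.inv2 := by
  set c := x⁻¹ * y with hc
  have hcC : c ∈ centralizer (A : Set P) := h.of_code_zero (mul_mem (inv_mem hx) hy) (by
    rw [h.code_mul (inv_mem hx) hy, h.code_inv hx, he]
    have : ∀ d : Code, d + d = 0 := by decide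
    exact this _)
  obtain ⟨k, hk⟩ := IsPGroup.iff_orderOf.1 F.isP c
  have h1 := h.inv_sq hx hg k c (by rw [← hk, pow_orderOf_eq_one]) hcC (by
    rw [hc, mul_inv_rev, inv_inv, ← mul_assoc, mul_inv_cancel, one_mul, inv_eq_of_mul_eq_one_right hx2,
      inv_eq_of_mul_eq_one_right hy2])
  exact ⟨F.omega c hcC (by rw [pow_four, h1, one_mul]), h1⟩

/-- An involution in the coset. -/
theorem exists_invol (h : Coords F e w a b) {x : P} (hx : x ∈ h.K) (hg : good (h.code x)) (hx2 : x * x ∈ F.inv2) :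
    ∃ y ∈ h.K, y * y = 1 ∧ h.code y = h.code x := by
  obtain ⟨q, hq⟩ := phi_surj _ hg (h.bits (x * x))
  have hzC : h.rep q ∈ centralizer (A : Set P) := F.le_centralizer (h.rep_mem q)
  refine ⟨x * h.rep q, mul_mem hx (h.centralizer_le_K hzC), ?_, ?_⟩
  · have h1 := h.act (inv_mem hx) (h.rep_mem q)
    rw [inv_inv, h.code_inv hx, h.rep_sq, h.bits_emb] at h1
    rw [show x * h.rep q * (x * h.rep q) = x * x * ((x⁻¹ * h.rep q * x) * h.rep q) by group, h1,
      mul_assoc (h.emb _), h.rep_sq, ← h.emb_add, hq, h.emb_bits hx2, hx2.2]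
  · rw [h.code_mul hx (h.centralizer_le_K hzC), h.code_zero hzC, add_zero]

/-- No involution coset of a fixed good code. -/
theorem no_fixed_invol (h : Coords F e w a b) {x : P} (hx : x ∈ h.K) (hg : good (h.code x)) (hne : h.code x ≠ 0)
    (hx2 : x * x ∈ F.inv2) (hfix : ∀ g, h.code (g * x * g⁻¹) = h.code x) : False := by
  obtain ⟨y, hy, hy2, hyc⟩ := h.exists_invol hx hg hx2
  set E := closure ({y, e, w} : Set P) with hE
  have hyE : y ∈ E := subset_closure (by simp)
  have hW : F.inv2 ≤ E := fun z hz => by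
    rcases h.all z hz with rfl | rfl | rfl | rfl
    exacts [one_mem E, subset_closure (by simp), subset_closure (by simp),
      mul_mem (subset_closure (by simp)) (subset_closure (by simp))]
  have hEc : IsMulCommutative E := isMulCommutative_closure (by
    rintro p (rfl | rfl | rfl) q (rfl | rfl | rfl) <;> first
      | rfl
      | exact mul_inv_eq_iff_eq_mul.1 (h.fix hy h.memE)
      | exact (mul_inv_eq_iff_eq_mul.1 (h.fix hy h.memE)).symm
      | exact mul_inv_eq_iff_eq_mul.1 (h.fix hy h.memW)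
      | exact (mul_inv_eq_iff_eq_mul.1 (h.fix hy h.memW)).symm
      | exact F.mul_comm h.memE.1 h.memW.1
      | exact F.mul_comm h.memW.1 h.memE.1)
  have hEe : ∀ p ∈ E, p ^ 2 = 1 := by
    intro p hp
    induction hp using closure_induction with
    | mem z hz => rcases hz with rfl | rfl | rfl <;> rw [pow_two]; exacts [hy2, h.memE.2, h.memW.2]
    | one => exact one_pow 2
    | mul p q hp hq h1 h2 =>
      rw [(show Commute p q from congrArg Subtype.val (hEc.is_comm.comm ⟨p, hp⟩ ⟨q, hq⟩)).mul_pow, h1, h2, one_mul]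
    | inv p _ h1 => rw [inv_pow, h1, inv_one]
  have hEn : E.Normal := ⟨fun p hp g => by
    induction hp using closure_induction with
    | mem z hz =>
      rcases hz with rfl | rfl | rfl
      · have hzfix : h.code (g * z * g⁻¹) = h.code z := by
          rw [h.code_conj g hy, hyc, ← h.code_conj g hx, hfix g]
        have := h.diff_mem hy (h.K_conj hy g) hy2 (by
          rw [show g * z * g⁻¹ * (g * z * g⁻¹) = g * (z * z) * g⁻¹ by group, hy2, mul_one, mul_inv_cancel])
          (hyc ▸ hg) hzfix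
        simpa using mul_mem hyE (hW this)
      · exact hW (F.inv2_normal.conj_mem _ h.memE g)
      · exact hW (F.inv2_normal.conj_mem _ h.memW g)
    | one => simp
    | mul z z' _ _ h1 h2 => rw [show g * (z * z') * g⁻¹ = g * z * g⁻¹ * (g * z' * g⁻¹) by group]; exact mul_mem h1 h2
    | inv z _ h1 => rw [show g * z⁻¹ * g⁻¹ = (g * z * g⁻¹)⁻¹ by group]; exact inv_mem h1⟩
  have hcard : 4 ≤ Nat.card F.inv2 := by
    have := Nat.card_le_card_of_injective (fun q => (⟨h.emb q, h.emb_mem q⟩ : F.inv2))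
      fun q r hqr => h.emb_inj (congrArg Subtype.val hqr)
    simpa using this
  have hEW : E ≤ F.inv2 := (eq_of_le_of_card_ge hW ((F.small E hEn hEc hEe).trans hcard)).ge
  exact hne (hyc ▸ h.code_zero (F.le_centralizer (hEW hyE).1))

/-- The square of a fixed good element is not a square. -/
theorem sq_not_square (h : Coords F e w a b) {v : P} (hv : v ∈ h.K) (hg : good (h.code v)) (hne : h.code v ≠ 0)
    (hfix : ∀ g, h.code (g * v * g⁻¹) = h.code v) :
    v * v ∈ centralizer (A : Set P) ∧ ∀ d ∈ centralizer (A : Set P), v * v ≠ d * d := by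
  refine ⟨h.of_code_zero (mul_mem hv hv) (by
    rw [h.code_mul hv hv]
    have : ∀ c : Code, c + c = 0 := by decide
    exact this _), fun d hd hvd => ?_⟩
  have hd' : v * d * v⁻¹ ∈ centralizer (A : Set P) := by
    haveI := F.normal
    exact (inferInstance : (centralizer (A : Set P)).Normal).conj_mem d hd v
  have hsq := sq_inj (F.isP.to_subgroup _) (F.centralizer_om (le_refl (centralizer (A : Set P))))
    (x := ⟨v * d * v⁻¹, hd'⟩) (y := ⟨d, hd⟩) (Subtype.ext (by
      show v * d * v⁻¹ * (v * d * v⁻¹) = d * d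
      rw [show v * d * v⁻¹ * (v * d * v⁻¹) = v * (d * d) * v⁻¹ by group, ← hvd]; group))
  set w0 := v * d * v⁻¹ * d⁻¹ with hw0
  have hw0' : w0 * w0 = 1 := congrArg Subtype.val hsq
  have hw0C : w0 ∈ centralizer (A : Set P) := mul_mem hd' (inv_mem hd)
  have hw0W : w0 ∈ F.inv2 := ⟨F.omega _ hw0C (by rw [pow_four, hw0', one_mul]), hw0'⟩
  have hdK := inv_mem (h.centralizer_le_K hd)
  refine h.no_fixed_invol (mul_mem hv hdK) ?_ ?_ ?_ fun g => ?_
  · rwa [h.code_mul hv hdK, h.code_zero (inv_mem hd), add_zero]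
  · rwa [h.code_mul hv hdK, h.code_zero (inv_mem hd), add_zero]
  · have hcm : d⁻¹ * w0⁻¹ = w0⁻¹ * d⁻¹ := (mem_centralizer_iff.1 (inv_mem hd) _ (inv_mem hw0W.1)).symm
    have h1 : v * d⁻¹ * (v * d⁻¹) = w0⁻¹ := by
      calc v * d⁻¹ * (v * d⁻¹) = (v * d⁻¹ * v⁻¹) * (v * v) * d⁻¹ := by group
        _ = d⁻¹ * w0⁻¹ * (d * d) * d⁻¹ := by rw [hvd, show v * d⁻¹ * v⁻¹ = d⁻¹ * w0⁻¹ by rw [hw0]; group]
        _ = w0⁻¹ := by rw [hcm]; group
    rw [h1]; exact inv_mem hw0W
  · rw [h.code_conj g (mul_mem hv hdK), h.code_mul hv hdK, h.code_zero (inv_mem hd), add_zero, ← h.code_conj g hv, hfix g]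

theorem not_omg_nil (h : Coords F e w a b) {x v : P} (hx : x ∈ h.K) (hv : v ∈ h.K) (hxc : h.code x = omg)
    (hvc : h.code v = nil0) : False := by
  have hg : good (h.code x) := by rw [hxc]; decide
  have hn : noFix (h.code x) := by rw [hxc]; decide
  have hxxC : x * x ∈ centralizer (A : Set P) := h.of_code_zero (mul_mem hx hx) (by
    rw [h.code_mul hx hx, hxc]; decide)
  obtain ⟨k, hk⟩ := IsPGroup.iff_orderOf.1 F.isP (x * x)
  have h1 := h.fixed_sq hx hn k (x * x) (by rw [← hk, pow_orderOf_eq_one]) hxxC (by group)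
  have hxW : x * x ∈ F.inv2 := ⟨F.omega _ hxxC (by rw [pow_four, h1, one_mul]), h1⟩
  obtain ⟨y, hy, hy2, hyc⟩ := h.exists_invol hx hg hxW
  have hc := h.diff_mem hy (h.K_conj hy v) hy2 (by
    rw [show v * y * v⁻¹ * (v * y * v⁻¹) = v * (y * y) * v⁻¹ by group, hy2, mul_one, mul_inv_cancel])
    (hyc ▸ hg) (by rw [h.code_conj v hy, if_pos hv])
  set c := y⁻¹ * (v * y * v⁻¹) with hc'
  have hvvC : v * v ∈ centralizer (A : Set P) := h.of_code_zero (mul_mem hv hv) (by
    rw [h.code_mul hv hv, hvc]; decide)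
  have hyv : y⁻¹ * v * y = c * v := by rw [hc']; group
  have hfix : y * (v * v) * y⁻¹ = v * v := by
    have h2 : y⁻¹ * (v * v) * y = v * v := by
      calc y⁻¹ * (v * v) * y = y⁻¹ * v * y * (y⁻¹ * v * y) := by group
        _ = c * (v * c * v⁻¹) * (v * v) := by rw [hyv]; group
        _ = v * v := by rw [h.fix hv hc, hc.2, one_mul]
    calc y * (v * v) * y⁻¹ = y * (y⁻¹ * (v * v) * y) * y⁻¹ := by rw [h2]
      _ = v * v := by group
  obtain ⟨l, hl⟩ := IsPGroup.iff_orderOf.1 F.isP (v * v)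
  have h3 := h.fixed_sq hy (hyc ▸ hn) l (v * v) (by rw [← hl, pow_orderOf_eq_one]) hvvC hfix
  obtain ⟨q, hq⟩ := h.emb_surj (z := v * v) ⟨F.omega _ hvvC (by rw [pow_four, h3, one_mul]), h3⟩
  refine (h.sq_not_square hv (by rw [hvc]; decide) (by rw [hvc]; decide) fun g => ?_).2 _
    (F.le_centralizer (h.rep_mem q)) (by rw [h.rep_sq, hq])
  rw [h.code_conj g hv, hvc, show sig nil0 = nil0 by decide, ite_self]

/-- The codes of a subgroup. -/
noncomputable def codes (h : Coords F e w a b) (S : Subgroup P) : AddSubgroup Code where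
  carrier := {c | ∃ k ∈ S, k ∈ h.K ∧ h.code k = c}
  zero_mem' := ⟨1, one_mem S, one_mem _, h.code_one⟩
  add_mem' := by
    rintro _ _ ⟨k, hk, hk', rfl⟩ ⟨l, hl, hl', rfl⟩
    exact ⟨k * l, mul_mem hk hl, mul_mem hk' hl', h.code_mul hk' hl'⟩
  neg_mem' := by
    rintro c ⟨k, hk, hk', rfl⟩
    exact ⟨k, hk, hk', (show ∀ c : Code, c = -c by decide) _⟩

theorem mem_codes (h : Coords F e w a b) {S : Subgroup P} {c : Code} :
    c ∈ h.codes S ↔ ∃ k ∈ S, k ∈ h.K ∧ h.code k = c := Iff.rfl

theorem code_mem_codes (h : Coords F e w a b) {S : Subgroup P} {k : P} (hk : k ∈ S) (hk' : k ∈ h.K) :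
    h.code k ∈ h.codes S := ⟨k, hk, hk', rfl⟩

theorem sig_mem (h : Coords F e w a b) {S : Subgroup P} {g : P} (hg : g ∈ S) (hgK : g ∉ h.K) {c : Code}
    (hc : c ∈ h.codes S) : sig c ∈ h.codes S := by
  obtain ⟨k, hk, hk', rfl⟩ := hc
  exact ⟨_, mul_mem (mul_mem hg hk) (inv_mem hg), h.K_conj hk' g, by rw [h.code_conj g hk', if_neg hgK]⟩

theorem cover (h : Coords F e w a b) {S H : Subgroup P} (hSH : S ≤ H) (hst : ∀ x ∈ H, ∃ s ∈ S, s⁻¹ * x ∈ h.K)
    (hV : h.codes H ≤ h.codes S) : ∀ x ∈ H, ∃ k ∈ S, k⁻¹ * x ∈ centralizer (A : Set P) := by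
  intro x hx
  obtain ⟨s, hs, hsx⟩ := hst x hx
  obtain ⟨k, hk, hkK, hkc⟩ := hV (h.code_mem_codes (mul_mem (inv_mem (hSH hs)) hx) hsx)
  refine ⟨s * k, mul_mem hs hk, ?_⟩
  rw [show (s * k)⁻¹ * x = k⁻¹ * (s⁻¹ * x) by group]
  refine h.of_code_zero (mul_mem (inv_mem hkK) hsx) ?_
  rw [h.code_mul (inv_mem hkK) hsx, h.code_inv hkK, hkc]
  exact (show ∀ c : Code, c + c = 0 by decide) _

theorem closure_le_codes (h : Coords F e w a b) {S : Subgroup P} {c : Code} {k : P} (hk : k ∈ S) (hk' : k ∈ h.K)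
    (hc : h.code k = c) : AddSubgroup.closure {c} ≤ h.codes S :=
  (AddSubgroup.closure_le _).2 (Set.singleton_subset_iff.2 ⟨k, hk, hk', hc⟩)

/-- A large code group. -/
theorem large (h : Coords F e w a b) {H : Subgroup P} (hH : 4 < Nat.card ↥(h.codes H)) :
    Nat.card ↥(h.codes H) = 8 ∧ ∃ v ∈ H, v ∈ h.K ∧ good (h.code v) ∧ h.code v ≠ 0 ∧
      (∀ g, h.code (g * v * g⁻¹) = h.code v) ∧ ((∃ g, g ∉ h.K) → h.code v = nil0) := by
  have htop : h.codes H ≤ h.codes ⊤ := fun c ⟨k, _, hk', e⟩ => ⟨k, mem_top k, hk', e⟩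
  have h16 : Nat.card ↥(h.codes ⊤) ≠ 16 := by
    intro h16
    have hall : h.codes (⊤ : Subgroup P) = ⊤ := AddSubgroup.eq_top_of_card_eq _ (by rw [h16]; simp)
    obtain ⟨x, -, hx, hxc⟩ := h.mem_codes.1 (hall ▸ AddSubgroup.mem_top omg)
    obtain ⟨v, -, hv, hvc⟩ := h.mem_codes.1 (hall ▸ AddSubgroup.mem_top nil0)
    exact h.not_omg_nil hx hv hxc hvc
  have hle := AddSubgroup.card_le_of_le htop
  have h8' : Nat.card ↥(h.codes (⊤ : Subgroup P)) = 8 := by
    rcases card_cases (h.codes (⊤ : Subgroup P)) with e1 | e1 | e1 | e1 <;> omega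
  have h8 : Nat.card ↥(h.codes H) = 8 := by
    rcases card_cases (h.codes H) with e1 | e1 | e1 | e1 <;> omega
  refine ⟨h8, ?_⟩
  have heq : h.codes H = h.codes ⊤ := AddSubgroup.eq_of_le_of_card_ge htop (by omega)
  have hidx : (h.codes H).index = 2 := by
    have := (h.codes H).card_mul_index
    rw [h8, show Nat.card Code = 16 by simp] at this
    omega
  have hadd := fun {c d : Code} (hc : c ∉ h.codes H) (hd : d ∉ h.codes H) =>
    (AddSubgroup.add_mem_iff_of_index_two hidx).2 (iff_of_false hc hd)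
  by_cases hK : ∀ g, g ∈ h.K
  · have hfix : ∀ v ∈ h.K, ∀ g, h.code (g * v * g⁻¹) = h.code v := fun v hv g => by
      rw [h.code_conj g hv, if_pos (hK g)]
    by_cases hn : ∃ c ∈ h.codes H, c = nil0 ∨ c = ((0, 0), (1, 0)) ∨ c = ((1, 1), (1, 1))
    · obtain ⟨c, hc, hc'⟩ := hn
      obtain ⟨v, hv, hvK, rfl⟩ := hc
      refine ⟨v, hv, hvK, ?_, ?_, hfix v hvK, fun ⟨g, hg⟩ => absurd (hK g) hg⟩ <;>
        rcases hc' with e | e | e <;> rw [e] <;> decide
    exfalso
    push_neg at hn
    have n0 : nil0 ∉ h.codes H := fun hc => (hn _ hc).1 rfl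
    have n1 : (((0, 0), (1, 0)) : Code) ∉ h.codes H := fun hc => (hn _ hc).2.1 rfl
    have n3 : (((1, 1), (1, 1)) : Code) ∉ h.codes H := fun hc => (hn _ hc).2.2 rfl
    have hone : (((1, 0), (0, 1)) : Code) ∉ h.codes H := fun hc => n0 (by
      rw [show nil0 = ((1, 0), (0, 1)) + (((0, 0), (1, 0)) + ((1, 1), (1, 1))) by decide]
      exact add_mem hc (hadd n1 n3))
    obtain ⟨c, hc, hgc, hnc, hne⟩ : ∃ c ∈ h.codes H, good c ∧ noFix c ∧ c ≠ 0 := by
      by_cases ho : omg ∈ h.codes H
      · exact ⟨omg, ho, by decide, by decide, by decide⟩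
      · exact ⟨((1, 0), (0, 1)) + omg, hadd hone ho, by decide, by decide, by decide⟩
    obtain ⟨x, -, hx, rfl⟩ := hc
    have hxxC : x * x ∈ centralizer (A : Set P) := h.of_code_zero (mul_mem hx hx) (by
      rw [h.code_mul hx hx]; exact (show ∀ c : Code, c + c = 0 by decide) _)
    obtain ⟨k, hk⟩ := IsPGroup.iff_orderOf.1 F.isP (x * x)
    have h1 := h.fixed_sq hx hnc k (x * x) (by rw [← hk, pow_orderOf_eq_one]) hxxC (by group)
    exact h.no_fixed_invol hx hgc hne ⟨F.omega _ hxxC (by rw [pow_four, h1, one_mul]), h1⟩ (hfix x hx)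
  · push_neg at hK
    obtain ⟨g, hg⟩ := hK
    have hsig : ∀ c ∈ h.codes H, sig c ∈ h.codes H := fun c hc => by
      rw [heq] at hc ⊢; exact h.sig_mem (mem_top g) hg hc
    have hnil : nil0 ∈ h.codes H := by
      by_cases hp : (((1, 0), (0, 0)) : Code) ∈ h.codes H
      · rw [show nil0 = ((1, 0), (0, 0)) + sig ((1, 0), (0, 0)) by decide]
        exact add_mem hp (hsig _ hp)
      · rw [show nil0 = ((1, 0), (0, 0)) + sig ((1, 0), (0, 0)) by decide]
        refine hadd hp fun hs => hp ?_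
        have h2 := hsig _ hs
        rwa [show ∀ q : Code, sig (sig q) = q by decide] at h2
    obtain ⟨v, hv, hvK, hvc⟩ := hnil
    refine ⟨v, hv, hvK, by rw [hvc]; decide, by rw [hvc]; decide, fun g' => ?_, fun _ => hvc⟩
    rw [h.code_conj g' hvK, hvc, show sig nil0 = nil0 by decide, ite_self]

/-- Every subgroup is generated by four elements. -/
theorem four (h : Coords F e w a b) (H : Subgroup P) : Four H := by
  have hlift : ∀ c ∈ h.codes H, ∃ k ∈ H, k ∈ h.K ∧ h.code k = c := fun c hc => hc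
  by_cases hHK : H ≤ h.K
  · have hst : ∀ S : Subgroup P, ∀ x ∈ H, ∃ s ∈ S, s⁻¹ * x ∈ h.K := fun S x hx =>
      ⟨1, one_mem S, by simpa using hHK hx⟩
    by_cases hc : Nat.card ↥(h.codes H) ≤ 4
    · obtain ⟨c₁, hc₁, h1⟩ := exists_next (T := (⊥ : AddSubgroup Code)) (V := h.codes H) bot_le
      rw [bot_sup_eq] at h1
      obtain ⟨k₁, hk₁, hk₁K, hk₁c⟩ := hlift _ hc₁
      obtain ⟨c₂, hc₂, h2⟩ : ∃ c₂ ∈ h.codes H, h.codes H ≤ AddSubgroup.closure {c₁} ⊔ AddSubgroup.closure {c₂} := by
        rcases h1 with h1 | h1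
        · exact ⟨0, zero_mem _, h1.trans bot_le⟩
        · rw [AddSubgroup.card_bot] at h1
          exact fill (n := 2) ((AddSubgroup.closure_le _).2 (by simpa using hc₁)) (by omega) (by omega)
      obtain ⟨k₂, hk₂, hk₂K, hk₂c⟩ := hlift _ hc₂
      refine F.four_of_two hk₁ hk₂ (h.cover ((closure_le H).2 (by rintro x (rfl | rfl) <;> assumption)) (hst _) ?_)
      exact h2.trans (sup_le (h.closure_le_codes (subset_closure (by simp)) hk₁K hk₁c)
        (h.closure_le_codes (subset_closure (by simp)) hk₂K hk₂c))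
    · obtain ⟨h8, v, hv, hvK, hvg, hvne, hvfix, -⟩ := h.large (H := H) (by omega)
      have hT0 : AddSubgroup.closure {h.code v} ≤ h.codes H :=
        (AddSubgroup.closure_le _).2 (by simpa using h.code_mem_codes hv hvK)
      have hcv : 2 ≤ Nat.card ↥(AddSubgroup.closure {h.code v}) := by
        have := grow (T := ⊥) (V := AddSubgroup.closure {h.code v}) (bot_lt_iff_ne_bot.2 fun e => hvne (by
          have h2 : h.code v ∈ AddSubgroup.closure {h.code v} := AddSubgroup.subset_closure rfl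
          rwa [e, AddSubgroup.mem_bot] at h2))
        rwa [AddSubgroup.card_bot, mul_one] at this
      obtain ⟨c₁, hc₁, h1⟩ := exists_next hT0
      have hT : AddSubgroup.closure {h.code v} ⊔ AddSubgroup.closure {c₁} ≤ h.codes H :=
        sup_le hT0 ((AddSubgroup.closure_le _).2 (by simpa using hc₁))
      obtain ⟨c₂, hc₂, h2⟩ : ∃ c₂ ∈ h.codes H, h.codes H ≤
          AddSubgroup.closure {h.code v} ⊔ AddSubgroup.closure {c₁} ⊔ AddSubgroup.closure {c₂} := by
        rcases h1 with h1 | h1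
        · exact ⟨0, zero_mem _, h1.trans (le_sup_left.trans le_sup_left)⟩
        · exact fill (n := 4) hT (by omega) (by omega)
      obtain ⟨k₁, hk₁, hk₁K, hk₁c⟩ := hlift _ hc₁
      obtain ⟨k₂, hk₂, hk₂K, hk₂c⟩ := hlift _ hc₂
      obtain ⟨hvC, hsq⟩ := h.sq_not_square hvK hvg hvne hvfix
      refine F.four_of_three hv hk₁ hk₂ (subset_closure (by simp)) hvC hsq
        (h.cover ((closure_le H).2 (by rintro x (rfl | rfl | rfl) <;> assumption)) (hst _) ?_)
      exact h2.trans (sup_le (sup_le (h.closure_le_codes (subset_closure (by simp)) hvK rfl)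
        (h.closure_le_codes (subset_closure (by simp)) hk₁K hk₁c))
        (h.closure_le_codes (subset_closure (by simp)) hk₂K hk₂c))
  obtain ⟨g, hgH, hgK⟩ := SetLike.not_le_iff_exists.1 hHK
  have hst : ∀ S : Subgroup P, g ∈ S → ∀ x ∈ H, ∃ s ∈ S, s⁻¹ * x ∈ h.K := fun S hgS x hx => by
    by_cases hxK : x ∈ h.K
    · exact ⟨1, one_mem S, by simpa using hxK⟩
    · exact ⟨g, hgS, h.mem_K.2 (F.stab_index h.central h.memW h.all (fun e => hgK (h.mem_K.2 e))
        fun e => hxK (h.mem_K.2 e))⟩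
  have hsig : ∀ c ∈ h.codes H, sig c ∈ h.codes H := fun c hc => h.sig_mem hgH hgK hc
  have three : ∀ k₁ ∈ H, ∀ k₂ ∈ H, nil0 ∈ h.codes H → h.codes H ≤ h.codes (closure {g, k₁, k₂}) → Four H := by
    intro k₁ hk₁ k₂ hk₂ hn hV
    obtain ⟨v, hv, hvK, hvc⟩ := hV hn
    obtain ⟨hvC, hsq⟩ := h.sq_not_square hvK (by rw [hvc]; decide) (by rw [hvc]; decide) fun g' => by
      rw [h.code_conj g' hvK, hvc, show sig nil0 = nil0 by decide, ite_self]
    exact F.four_of_three hgH hk₁ hk₂ hv hvC hsq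
      (h.cover ((closure_le H).2 (by rintro x (rfl | rfl | rfl) <;> assumption)) (hst _ (subset_closure (by simp))) hV)
  have pair : ∀ t ∈ h.codes H, sig t ≠ t → 4 ≤ Nat.card ↥(AddSubgroup.closure {t} ⊔ AddSubgroup.closure {sig t}) ∧
      AddSubgroup.closure {t} ⊔ AddSubgroup.closure {sig t} ≤ h.codes H := by
    intro t ht hne
    refine ⟨card_closure_pair (fun e => hne (by rw [e]; decide)) fun hm => ?_,
      sup_le ((AddSubgroup.closure_le _).2 (by simpa using ht)) ((AddSubgroup.closure_le _).2 (by simpa using hsig t ht))⟩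
    obtain ⟨n, hn⟩ := AddSubgroup.mem_closure_singleton.1 hm
    rcases Int.even_or_odd' n with ⟨m, rfl | rfl⟩
    · have h0 : (2 * m) • t = 0 := by
        rw [mul_comm, mul_smul, two_zsmul, (show ∀ c : Code, c + c = 0 by decide) t, smul_zero]
      rw [h0] at hn
      exact hne (by
        rw [← hn]
        exact ((show ∀ c : Code, sig c = 0 → c = 0 by decide) t hn.symm).symm)
    · have h1 : (2 * m + 1) • t = t := by
        rw [add_smul, mul_comm, mul_smul, two_zsmul, (show ∀ c : Code, c + c = 0 by decide) t, smul_zero, one_smul, zero_add]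
      rw [h1] at hn
      exact hne hn.symm
  have hfixed : ∀ c : Code, sig c = c → c = 0 ∨ c = nil0 ∨ c = ((1, 0), (0, 1)) ∨ c = ((1, 1), (0, 1)) := by decide
  by_cases hc : Nat.card ↥(h.codes H) ≤ 4
  · by_cases hn : nil0 ∈ h.codes H
    · obtain ⟨c₁, hc₁, h1⟩ := exists_next (T := (⊥ : AddSubgroup Code)) (V := h.codes H) bot_le
      rw [bot_sup_eq] at h1
      obtain ⟨c₂, hc₂, h2⟩ : ∃ c₂ ∈ h.codes H, h.codes H ≤ AddSubgroup.closure {c₁} ⊔ AddSubgroup.closure {c₂} := by
        rcases h1 with h1 | h1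
        · exact ⟨0, zero_mem _, h1.trans bot_le⟩
        · rw [AddSubgroup.card_bot] at h1
          exact fill (n := 2) ((AddSubgroup.closure_le _).2 (by simpa using hc₁)) (by omega) (by omega)
      obtain ⟨k₁, hk₁, hk₁K, hk₁c⟩ := hlift _ hc₁
      obtain ⟨k₂, hk₂, hk₂K, hk₂c⟩ := hlift _ hc₂
      exact three k₁ hk₁ k₂ hk₂ hn (h2.trans (sup_le (h.closure_le_codes (subset_closure (by simp)) hk₁K hk₁c)
        (h.closure_le_codes (subset_closure (by simp)) hk₂K hk₂c)))
    · obtain ⟨c₁, hc₁, h1⟩ : ∃ c₁ ∈ h.codes H, ∀ S : Subgroup P, g ∈ S →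
          AddSubgroup.closure {c₁} ≤ h.codes S → h.codes H ≤ h.codes S := by
        by_cases ht : ∃ t ∈ h.codes H, sig t ≠ t
        · obtain ⟨t, ht, htne⟩ := ht
          obtain ⟨hp4, hple⟩ := pair t ht htne
          refine ⟨t, ht, fun S hgS hS => ?_⟩
          rw [← AddSubgroup.eq_of_le_of_card_ge hple (by omega)]
          exact sup_le hS ((AddSubgroup.closure_le _).2 (by
            simpa using h.sig_mem hgS hgK (hS (AddSubgroup.subset_closure rfl))))
        · push_neg at ht
          have h3 : Nat.card ↥(h.codes H) ≤ 2 := by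
            rcases card_cases (h.codes H) with e1 | e1 | e1 | e1
            · exact e1
            all_goals exfalso
            · have hsub : (h.codes H : Set Code) ⊆ {0, ((1, 0), (0, 1)), ((1, 1), (0, 1))} := fun c hc' => by
                rcases hfixed c (ht c hc') with e | e | e | e
                · simp [e]
                · exact absurd (e ▸ hc') hn
                · simp [e]
                · simp [e]
              have h4 := Set.ncard_le_ncard hsub (Set.toFinite _)
              rw [← Nat.card_coe_set_eq] at h4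
              have h5 : ({0, ((1, 0), (0, 1)), ((1, 1), (0, 1))} : Set Code).ncard ≤ 3 :=
                (Set.ncard_insert_le _ _).trans (Nat.succ_le_succ ((Set.ncard_insert_le _ _).trans (by simp)))
              have h6 : Nat.card ↥(h.codes H) ≤ 3 := h4.trans h5
              omega
            · omega
            · omega
          obtain ⟨c₁, hc₁, h1⟩ := exists_next (T := (⊥ : AddSubgroup Code)) (V := h.codes H) bot_le
          rw [bot_sup_eq] at h1
          refine ⟨c₁, hc₁, fun S _ hS => ?_⟩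
          rcases h1 with h1 | h1
          · exact h1.trans bot_le
          · rw [AddSubgroup.card_bot] at h1
            exact (AddSubgroup.eq_of_le_of_card_ge ((AddSubgroup.closure_le (h.codes H)).2 (by simpa using hc₁))
              (by omega)).ge.trans hS
      obtain ⟨k₁, hk₁, hk₁K, hk₁c⟩ := hlift _ hc₁
      exact F.four_of_two hgH hk₁ (h.cover ((closure_le H).2 (by rintro x (rfl | rfl) <;> assumption))
        (hst _ (subset_closure (by simp)))
        (h1 _ (subset_closure (by simp)) (h.closure_le_codes (subset_closure (by simp)) hk₁K hk₁c)))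
  · obtain ⟨h8, v, hv, hvK, -, -, -, hnil⟩ := h.large (H := H) (by omega)
    have hn : nil0 ∈ h.codes H := hnil ⟨g, hgK⟩ ▸ h.code_mem_codes hv hvK
    obtain ⟨t, ht, htne⟩ : ∃ t ∈ h.codes H, sig t ≠ t := by
      by_contra! hall
      have hsub : (h.codes H : Set Code) ⊆ {0, nil0, ((1, 0), (0, 1)), ((1, 1), (0, 1))} := fun c hc' => by
        simpa using hfixed c (hall c hc')
      have h4 := Set.ncard_le_ncard hsub (Set.toFinite _)
      rw [← Nat.card_coe_set_eq] at h4
      have h5 : ({0, nil0, ((1, 0), (0, 1)), ((1, 1), (0, 1))} : Set Code).ncard ≤ 4 :=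
        (Set.ncard_insert_le _ _).trans (Nat.succ_le_succ
          ((Set.ncard_insert_le _ _).trans (Nat.succ_le_succ ((Set.ncard_insert_le _ _).trans (by simp)))))
      have h6 : Nat.card ↥(h.codes H) ≤ 4 := h4.trans h5
      omega
    obtain ⟨hp4, hple⟩ := pair t ht htne
    obtain ⟨c₂, hc₂, h2⟩ := fill (n := 4) hple (by omega) hp4
    obtain ⟨k₁, hk₁, hk₁K, hk₁c⟩ := hlift _ ht
    obtain ⟨k₂, hk₂, hk₂K, hk₂c⟩ := hlift _ hc₂
    have h1S : AddSubgroup.closure {t} ≤ h.codes (closure {g, k₁, k₂}) :=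
      h.closure_le_codes (subset_closure (by simp)) hk₁K hk₁c
    exact three k₁ hk₁ k₂ hk₂ hn (h2.trans (sup_le (sup_le h1S ((AddSubgroup.closure_le _).2 (by
      simpa using h.sig_mem (S := closure {g, k₁, k₂}) (subset_closure (by simp)) hgK
        (h1S (AddSubgroup.subset_closure rfl))))) (h.closure_le_codes (subset_closure (by simp)) hk₂K hk₂c)))

end Coords

end CfsgLib.PGroup.MacWilliams
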