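import Mathlib
import Cfsg.Prelude
import Cfsg.Agent.Lib.PGroup.MacWilliams.Big

/-!
The four generator theorem.
-/

set_option autoImplicit false

namespace CfsgLib.PGroup.MacWilliams

open Subgroup

universe u

variable {P : Type u} [Group P] [Finite P]

theorem four_of_no_normal_eight (hP : IsPGroup 2 P)
    (h : ∀ A : Subgroup P, A.Normal → IsMulCommutative A → (∀ a ∈ A, a ^ 2 = 1) → Nat.card A ≤ 4) (H : Subgroup P) :
    Four H := by
  haveI : Fact (Nat.Prime 2) := ⟨Nat.prime_two⟩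
  obtain ⟨A, F⟩ := exists_frame hP h
  have hsq : ∀ z ∈ A, z * z ∈ F.inv2 := fun z hz => ⟨mul_mem hz hz, by rw [← pow_four]; exact F.exp z hz⟩
  by_cases hbig : ∃ a ∈ A, ∃ b ∈ A, a * a ≠ 1 ∧ b * b ≠ 1 ∧ a * a ≠ b * b
  · obtain ⟨a, ha, b, hb, ha1, hb1, hab⟩ := hbig
    obtain ⟨w', -, hall⟩ := F.exists_w (hsq a ha) ha1
    -- a central square
    have hex : ∃ c ∈ A, c * c ≠ 1 ∧ ∀ g : P, g * (c * c) * g⁻¹ = c * c := by
      haveI := F.inv2_normal
      obtain ⟨e, he, heo⟩ := CfsgLib.PGroup.exists_orderOf_eq hP (CfsgLib.PGroup.inf_center_ne_bot hP F.inv2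
        (fun e => ha1 (by simpa [e] using hsq a ha)))
      have he1 : e ≠ 1 := fun e1 => by rw [e1, orderOf_one] at heo; norm_num at heo
      have hcen : ∀ g : P, g * e * g⁻¹ = e := fun g => by rw [mem_center_iff.1 he.2 g, mul_inv_cancel_right]
      rcases hall _ he.1 with e1 | e1 | e1 | e1
      · exact absurd e1 he1
      · subst e1; exact ⟨a, ha, ha1, hcen⟩
      all_goals rcases hall _ (hsq b hb) with e2 | e2 | e2 | e2
      · exact absurd e2 hb1
      · exact absurd e2.symm hab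
      · exact ⟨b, hb, hb1, by rw [e2, ← e1]; exact hcen⟩
      · refine ⟨a * b, mul_mem ha hb, ?_⟩
        rw [(show Commute b a from F.mul_comm hb ha).mul_mul_mul_comm, e2, ← mul_assoc (a * a), (hsq a ha).2, one_mul,
          ← e1]
        exact ⟨he1, hcen⟩
      · exact absurd e2 hb1
      · exact absurd e2.symm hab
      · refine ⟨a * b, mul_mem ha hb, ?_⟩
        rw [(show Commute b a from F.mul_comm hb ha).mul_mul_mul_comm, e2, ← e1]
        exact ⟨he1, hcen⟩
      · exact ⟨b, hb, hb1, by rw [e2, ← e1]; exact hcen⟩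
    obtain ⟨c, hc, hc1, hcen⟩ := hex
    obtain ⟨d, hd, hd1, hdc⟩ : ∃ d ∈ A, d * d ≠ 1 ∧ d * d ≠ c * c := by
      by_cases hac : a * a = c * c
      · exact ⟨b, hb, hb1, fun e => hab (hac.trans e.symm)⟩
      · exact ⟨a, ha, ha1, hac⟩
    obtain ⟨w, -, hall'⟩ := F.exists_w (hsq c hc) hc1
    refine Coords.four (e := c * c) (w := d * d) (a := d) (b := c)
      ⟨hcen, hsq c hc, hsq d hd, hc1, hd1, hdc, ?_, hd, hc, rfl, rfl⟩ H
    intro z hz
    rcases hall' _ (hsq d hd) with e1 | e1 | e1 | e1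
    · exact absurd e1 hd1
    · exact absurd e1 hdc
    · rw [e1]; exact hall' z hz
    · rw [e1]
      rcases hall' z hz with e2 | e2 | e2 | e2
      · exact Or.inl e2
      · exact Or.inr (Or.inl e2)
      · exact Or.inr (Or.inr (Or.inr (by rw [← mul_assoc, (hsq c hc).2, one_mul]; exact e2)))
      · exact Or.inr (Or.inr (Or.inl e2))
  push_neg at hbig
  by_cases hne : ∃ a ∈ A, a * a ≠ 1
  · obtain ⟨a, ha, ha1⟩ := hne
    obtain ⟨w, hw, hall⟩ := F.exists_w (hsq a ha) ha1
    refine F.four_small (e := a * a) (a := a) (fun g => ?_) hw hall (hsq a ha) ha (Or.inr rfl) (fun z hz => ?_) H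
    · have h2 : g * a * g⁻¹ * (g * a * g⁻¹) = g * (a * a) * g⁻¹ := by group
      rw [← h2]
      exact (hbig a ha _ (F.normal.conj_mem a ha g) ha1 (by
        rw [h2]; exact fun e => ha1 (conj_eq_one_iff.1 e))).symm
    · by_cases hz1 : z * z = 1
      · exact Or.inl ⟨hz, hz1⟩
      · refine Or.inr ⟨mul_mem hz (inv_mem ha), ?_⟩
        rw [(show Commute a⁻¹ z from F.mul_comm (inv_mem ha) hz).mul_mul_mul_comm, ← mul_inv_rev,
          ← hbig a ha z hz ha1 hz1, mul_inv_cancel]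
  push_neg at hne
  have hA : ∀ z ∈ A, z ∈ F.inv2 ∨ z * 1⁻¹ ∈ F.inv2 := fun z hz => Or.inl ⟨hz, hne z hz⟩
  by_cases hbot : F.inv2 = ⊥
  · have hall : ∀ z ∈ F.inv2, z = 1 ∨ z = (1 : P) ∨ z = (1 : P) ∨ z = (1 : P) * 1 := fun z hz => by
      rw [hbot, mem_bot] at hz; exact Or.inl hz
    exact F.four_small (e := 1) (w := 1) (a := 1) (by simp) (one_mem _) hall (one_mem _) (one_mem A)
      (Or.inl (one_mul 1)) hA H
  haveI := F.inv2_normal
  obtain ⟨e, he, heo⟩ := CfsgLib.PGroup.exists_orderOf_eq hP (CfsgLib.PGroup.inf_center_ne_bot hP F.inv2 hbot)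
  obtain ⟨w, hw, hall⟩ := F.exists_w he.1 fun e1 => by rw [e1, orderOf_one] at heo; norm_num at heo
  exact F.four_small (a := 1) (fun g => by rw [mem_center_iff.1 he.2 g, mul_inv_cancel_right]) hw hall he.1
    (one_mem A) (Or.inl (one_mul 1)) hA H

theorem card_le_sixteen {G : Type*} [Group G] [Finite G] (h2 : ∀ x : G, x * x = 1) (a b c d : G)
    (hgen : closure {a, b, c, d} = (⊤ : Subgroup G)) : Nat.card G ≤ 16 := by
  have hinv : ∀ x : G, x⁻¹ = x := fun x => inv_eq_of_mul_eq_one_right (h2 x)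
  have hcomm : ∀ x y : G, x * y = y * x := fun x y => by
    rw [← hinv (x * y), mul_inv_rev, hinv, hinv]
  let f : (ZMod 2 × ZMod 2) × (ZMod 2 × ZMod 2) → G :=
    fun q => a ^ q.1.1.val * b ^ q.1.2.val * (c ^ q.2.1.val * d ^ q.2.2.val)
  have hp : ∀ (x : G) (m n : ZMod 2), x ^ (m + n).val = x ^ m.val * x ^ n.val := fun x m n => by
    rw [ZMod.val_add, ← pow_eq_pow_mod _ (show x ^ 2 = 1 by rw [pow_two, h2]), pow_add]
  letI : CommGroup G := { ‹Group G› with mul_comm := hcomm }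
  have hadd : ∀ q r, f (q + r) = f q * f r := fun q r => by
    simp only [f, Prod.fst_add, Prod.snd_add, hp]
    ac_rfl
  have hsur : Function.Surjective f := by
    intro x
    have hx : x ∈ closure {a, b, c, d} := hgen ▸ mem_top x
    induction hx using closure_induction with
    | mem z hz =>
      have v1 : (1 : ZMod 2).val = 1 := rfl
      rcases hz with rfl | rfl | rfl | rfl
      exacts [⟨((1, 0), (0, 0)), by simp [f, v1]⟩, ⟨((0, 1), (0, 0)), by simp [f, v1]⟩,
        ⟨((0, 0), (1, 0)), by simp [f, v1]⟩, ⟨((0, 0), (0, 1)), by simp [f, v1]⟩]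
    | one => exact ⟨0, by simp [f]⟩
    | mul y z _ _ hy hz =>
      obtain ⟨q, rfl⟩ := hy
      obtain ⟨r, rfl⟩ := hz
      exact ⟨q + r, hadd q r⟩
    | inv y _ hy => rw [hinv]; exact hy
  simpa using Nat.card_le_card_of_surjective f hsur

/-- Four generation of all subgroups bounds the sectional rank. -/
theorem sectional_of_four (hf : ∀ H : Subgroup P, Four H) : Cfsg.SectionalPRankLE 2 4 P := by
  intro H N _ B hBc hBe
  set π := QuotientGroup.mk' N
  set H' := (B.comap π).map H.subtype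
  obtain ⟨a, b, c, d, ha, hb, hc, hd, hle⟩ := hf H'
  obtain ⟨a', ha', rfl⟩ := ha
  obtain ⟨b', hb', rfl⟩ := hb
  obtain ⟨c', hc', rfl⟩ := hc
  obtain ⟨d', hd', rfl⟩ := hd
  have hgen : B.comap π ≤ closure {a', b', c', d'} := by
    have h1 : H' ≤ (closure {a', b', c', d'}).map H.subtype := by
      rw [MonoidHom.map_closure]
      simpa [Set.image_insert_eq] using hle
    exact (map_le_map_iff_of_injective H.subtype_injective).1 h1
  refine card_le_sixteen (fun x => Subtype.ext (by rw [← pow_two]; exact hBe _ x.2))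
    ⟨π a', ha'⟩ ⟨π b', hb'⟩ ⟨π c', hc'⟩ ⟨π d', hd'⟩ (eq_top_iff.2 fun x _ => ?_)
  obtain ⟨y, hy⟩ := QuotientGroup.mk'_surjective N (x : H ⧸ N)
  have hyc : y ∈ closure {a', b', c', d'} := hgen (show π y ∈ B by rw [show π y = x from hy]; exact x.2)
  have h2 : (x : H ⧸ N) ∈ (closure {(⟨π a', ha'⟩ : B), ⟨π b', hb'⟩, ⟨π c', hc'⟩, ⟨π d', hd'⟩}).map B.subtype := by
    rw [← hy, MonoidHom.map_closure]
    have h3 := Subgroup.mem_map_of_mem π hyc
    rw [MonoidHom.map_closure] at h3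
    simp only [Set.image_insert_eq, Set.image_singleton] at h3 ⊢
    exact h3
  obtain ⟨z, hz, hzx⟩ := h2
  exact Subtype.ext hzx ▸ hz

/-- The four generator theorem, in terms of sections. -/
theorem sectional (hP : IsPGroup 2 P)
    (h : ∀ A : Subgroup P, A.Normal → IsMulCommutative A → (∀ a ∈ A, a ^ 2 = 1) → Nat.card A ≤ 4) :
    Cfsg.SectionalPRankLE 2 4 P :=
  sectional_of_four (four_of_no_normal_eight hP h)

end CfsgLib.PGroup.MacWilliams
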